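import Cfsg.Agent.SP.Pos.B.Gen
import Cfsg.Agent.CoOneType.TopStep
import Cfsg.Agent.CoOneType.Gen
import Cfsg.Agent.StdG24.CoSide
import Cfsg.Agent.S0399
import Cfsg.Agent.S2069

/-! # S5755: the row `Co₁` (`3·Suz:2 > 3·Suz`, the eight double cosets of `CoOneType`) (helper26) -/

set_option autoImplicit false

namespace Cfsg.Agent.SP.PosB

open Cfsg Cfsg.Agent.SP Cfsg.Agent.CoOneType Cfsg.Agent.SporadicRecognition.CosetCert
open Cfsg.Agent.CoOneType.Chain Cfsg.Agent.CoOneType.TopRules Cfsg.Agent.CoOneType.TopClose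
open Cfsg.Agent.CoOneType.TopNodes Cfsg.Agent.CoOneType.TopFacts Cfsg.Agent.CoOneType.TopWords

section abstract

variable {G : Type*} [Group G]

/-- parity of the number of letters `≥ 6` -/
def oddW : List ℕ → Bool
  | [] => false
  | a :: u => xor (Nat.ble 6 a) (oddW u)

theorem conj_ev {L : ℕ → G} {c : G} (h1 : ∀ n, n < 6 → L n * c = c * L n)
    (h2 : ∀ n, 6 ≤ n → n < 11 → L n * c = c⁻¹ * L n) :
    ∀ u : List ℕ, (∀ n ∈ u, n < 11) → ev L u * c = (bif oddW u then c⁻¹ else c) * ev L u
  | [], _ => by rw [ev_nil, one_mul, mul_one]; rfl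
  | a :: u, hu => by
    have ih := conj_ev h1 h2 u fun n hn => hu n (List.mem_cons_of_mem _ hn)
    have ha := hu a List.mem_cons_self
    rw [ev_cons, mul_assoc, ih, ← mul_assoc, ← mul_assoc]
    congr 1
    by_cases h6 : a < 6
    · have e : Nat.ble 6 a = false := by
        rw [← Bool.not_eq_true, Nat.ble_eq]; omega
      have hc : Commute (L a) c := h1 a h6
      simp only [oddW, e, Bool.false_xor]
      cases oddW u
      · exact hc.eq
      · exact hc.inv_right.eq
    · have e : Nat.ble 6 a = true := by rw [Nat.ble_eq]; omega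
      have hc := h2 a (by omega) ha
      simp only [oddW, e, Bool.true_xor]
      cases oddW u
      · exact hc
      · change L a * c⁻¹ = c * L a
        have hs : SemiconjBy (L a) c c⁻¹ := hc
        have := hs.inv_right
        rwa [inv_inv] at this

theorem conj_K {L : ℕ → G} {c : G} (h1 : ∀ n, n < 6 → L n * c = c * L n)
    (h2 : ∀ n, 6 ≤ n → n < 11 → L n * c = c⁻¹ * L n) {k : G} (hk : k ∈ K L) :
    k * c = c * k ∨ k * c = c⁻¹ * k := by
  unfold K at hk
  have aux : ∀ {a : G}, a * c = c⁻¹ * a → a * c⁻¹ = c * a := by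
    intro a h
    have hs : SemiconjBy a c c⁻¹ := h
    have := hs.inv_right
    rwa [inv_inv] at this
  induction hk using Subgroup.closure_induction with
  | mem a ha =>
    obtain ⟨n, hn, rfl⟩ := ha
    by_cases h6 : n < 6
    · exact Or.inl (h1 n h6)
    · exact Or.inr (h2 n (by omega) hn)
  | one => left; rw [one_mul, mul_one]
  | mul a b _ _ ha hb =>
    rcases hb with hb | hb
    · rcases ha with ha | ha
      · left; rw [mul_assoc, hb, ← mul_assoc, ha, mul_assoc]
      · right; rw [mul_assoc, hb, ← mul_assoc, ha, mul_assoc]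
    · rcases ha with ha | ha
      · right
        have hc : Commute a c := ha
        rw [mul_assoc, hb, ← mul_assoc, hc.inv_right.eq, mul_assoc]
      · left; rw [mul_assoc, hb, ← mul_assoc, aux ha, mul_assoc]
  | inv a _ ha =>
    rcases ha with ha | ha
    · left
      have hc : Commute a c := ha
      exact hc.inv_left.eq
    · right
      have hs : SemiconjBy a c⁻¹ c := aux ha
      exact hs.inv_symm_left

theorem odd_node {L : ℕ → G} {w : G} (H : TopRel L w) (i : ℕ) (hi : i < 8) :
    ∃ u : List ℕ, ltB 11 u = true ∧ oddW u = true ∧ S L (X L w i) u := by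
  interval_cases i
  · exact ⟨a4, by decide +kernel, by decide +kernel, f4 H⟩
  · exact ⟨a13, by decide +kernel, by decide +kernel, f13 H⟩
  · exact ⟨a69, by decide +kernel, by decide +kernel, f69 H⟩
  · exact ⟨a43, by decide +kernel, by decide +kernel, f43 H⟩
  · exact ⟨a34, by decide +kernel, by decide +kernel, f34 H⟩
  · exact ⟨a70, by decide +kernel, by decide +kernel, f70 H⟩
  · exact ⟨a68, by decide +kernel, by decide +kernel, f68 H⟩
  · exact ⟨a78, by decide +kernel, by decide +kernel, f78 H⟩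

theorem isPair_top {L : ℕ → G} {w : G} (H : TopRel L w) (htop : TopClose.Top L w = ⊤) (hK : K L ≠ ⊤) {c : G}
    (hc : c⁻¹ ≠ c) (h1 : ∀ n, n < 6 → L n * c = c * L n)
    (h2 : ∀ n, 6 ≤ n → n < 11 → L n * c = c⁻¹ * L n) :
    IsPair (K L) (K L ⊓ Subgroup.centralizer {c}) := by
  have hB : ∀ a ∈ K L, a ∉ K L ⊓ Subgroup.centralizer {c} ↔ a * c = c⁻¹ * a := by
    intro a ha
    rw [Subgroup.mem_inf, Subgroup.mem_centralizer_singleton_iff]
    constructor
    · intro h
      exact (conj_K h1 h2 ha).resolve_left fun e => h ⟨ha, e⟩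
    · rintro h ⟨-, e⟩
      exact hc (mul_right_cancel (h.symm.trans e))
  refine isPair_of_index_two hK inf_le_left ?_ ?_
  · intro a ha b hb h3 h4
    rw [hB a ha] at h3
    rw [hB b hb] at h4
    refine ⟨(K L).mul_mem ha hb, Subgroup.mem_centralizer_singleton_iff.2 ?_⟩
    have hs : SemiconjBy a c c⁻¹ := h3
    have h5 := hs.inv_right
    rw [inv_inv] at h5
    rw [mul_assoc, h4, ← mul_assoc, h5.eq, mul_assoc]
  · intro t
    obtain ⟨j, hj, k, hk, hR⟩ := top_covered H (X := X L w) (n := 8) (by norm_num) rfl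
      (fun i hi => (nodes H i hi).node) t⁻¹ (by rw [htop]; exact Subgroup.mem_top _)
    obtain ⟨u, hu, ho, hS⟩ := odd_node H j hj
    have huK := ev_mem_K L hu
    have hg : k⁻¹ * ev L u * k ∈ K L := (K L).mul_mem ((K L).mul_mem ((K L).inv_mem hk) huK) hk
    refine ⟨k⁻¹ * ev L u * k, hg, ?_, ?_⟩
    · have h3 : t⁻¹ * (X L w j * k)⁻¹ ∈ K L := hR
      have h4 : X L w j * ev L u * (X L w j)⁻¹ ∈ K L := hS
      have h5 := (K L).mul_mem ((K L).mul_mem h3 h4) ((K L).inv_mem h3)
      rwa [show t⁻¹ * (X L w j * k)⁻¹ * (X L w j * ev L u * (X L w j)⁻¹) * (t⁻¹ * (X L w j * k)⁻¹)⁻¹ =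
        t⁻¹ * (k⁻¹ * ev L u * k) * t by group] at h5
    · rw [hB _ hg]
      have h3 := conj_ev h1 h2 u (ltB_iff hu)
      rw [ho, cond_true] at h3
      have hs : SemiconjBy (ev L u) c c⁻¹ := h3
      rcases conj_K h1 h2 hk with h4 | h4
      · have h5 : SemiconjBy k c c := h4
        exact SemiconjBy.mul_left (SemiconjBy.mul_left h5.inv_right.inv_symm_left hs) h5
      · have h5 : SemiconjBy k c c⁻¹ := h4
        have h6 := hs.inv_right
        rw [inv_inv] at h6
        have h7 := h5.inv_right.inv_symm_left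
        rw [inv_inv] at h7
        exact SemiconjBy.mul_left (SemiconjBy.mul_left h7 h6) h5

end abstract

open Cfsg.Agent.StdG24 Cfsg.Agent.CoOneType.CoEval

/-- the letters of `K` in `Co₁` -/
noncomputable def co1L : ℕ → Spor.Co1 :=
  lt Model.s Model.t Model.x Model.y Model.g Model.h Model.f Model.e' Model.d

/-- the element of order three inverted or centralised by the letters -/
noncomputable def co1c : Spor.Co1 := CoSide.val [6, 13, 6]

theorem co1c_inv : co1c⁻¹ = CoSide.val [6, 14, 6] := by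
  have h := CoSide.rel (u := [6, 13, 6, 6, 14, 6]) (v := []) (by decide +kernel)
  apply inv_eq_of_mul_eq_one_right
  simpa [co1c, CoSide.val, mul_assoc] using h

theorem co1c_ne : co1c⁻¹ ≠ co1c := by
  intro e
  have h := CoSide.ne_one (l := [6, 13, 6, 6, 13, 6]) (by decide +kernel)
  apply h
  have h2 : co1c * co1c = 1 := by
    nth_rewrite 1 [← e]
    exact inv_mul_cancel _
  simpa [co1c, CoSide.val, mul_assoc] using h2

theorem co1_cent (m : ℕ) (h : sameB CoSide.M [m, 6, 13, 6] [6, 13, 6, m] = true) :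
    pr (CoSide.e m) * co1c = co1c * pr (CoSide.e m) := by
  simpa [co1c, CoSide.val, mul_assoc] using CoSide.rel h

theorem co1_inv (m : ℕ) (h : sameB CoSide.M [m, 6, 13, 6] [6, 14, 6, m] = true) :
    pr (CoSide.e m) * co1c = co1c⁻¹ * pr (CoSide.e m) := by
  rw [co1c_inv]
  simpa [co1c, CoSide.val, mul_assoc] using CoSide.rel h

theorem co1_h1 (n : ℕ) (hn : n < 6) : co1L n * co1c = co1c * co1L n := by
  interval_cases n
  · exact co1_cent 0 (by decide +kernel)
  · exact co1_cent 1 (by decide +kernel)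
  · exact co1_cent 2 (by decide +kernel)
  · have hc : Commute Model.x co1c := co1_cent 2 (by decide +kernel)
    exact hc.inv_left.eq
  · exact co1_cent 4 (by decide +kernel)
  · have hc : Commute Model.y co1c := co1_cent 4 (by decide +kernel)
    exact hc.inv_left.eq

theorem co1_h2 (n : ℕ) (h6 : 6 ≤ n) (hn : n < 11) : co1L n * co1c = co1c⁻¹ * co1L n := by
  interval_cases n
  · exact co1_inv 10 (by decide +kernel)
  · exact co1_inv 11 (by decide +kernel)
  · exact co1_inv 9 (by decide +kernel)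
  · exact co1_inv 8 (by decide +kernel)
  · exact co1_inv 7 (by decide +kernel)

theorem co1_top : TopClose.Top co1L Model.w = ⊤ := by
  rw [eq_top_iff, ← Gen.closure_eq_top, Subgroup.closure_le]
  intro a ha
  simp only [Set.mem_insert_iff, Set.mem_singleton_iff] at ha
  unfold TopClose.Top
  rcases ha with rfl | rfl | rfl | rfl | rfl | rfl | rfl | rfl | rfl | rfl
  · exact Subgroup.subset_closure (Or.inl ⟨0, by simp, rfl⟩)
  · exact Subgroup.subset_closure (Or.inl ⟨1, by simp, rfl⟩)
  · exact Subgroup.subset_closure (Or.inl ⟨2, by simp, rfl⟩)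
  · exact Subgroup.subset_closure (Or.inl ⟨4, by simp, rfl⟩)
  · exact Subgroup.subset_closure (Or.inr rfl)
  · exact Subgroup.subset_closure (Or.inl ⟨10, by simp, rfl⟩)
  · exact Subgroup.subset_closure (Or.inl ⟨9, by simp, rfl⟩)
  · exact Subgroup.subset_closure (Or.inl ⟨8, by simp, rfl⟩)
  · exact Subgroup.subset_closure (Or.inl ⟨6, by simp, rfl⟩)
  · exact Subgroup.subset_closure (Or.inl ⟨7, by simp, rfl⟩)

theorem pairCo1 : Pair Spor.Co1 := by
  have H : TopRel co1L Model.w := TopStep.topRel Model.p957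
  refine ⟨_, _, isPair_top H co1_top ?_ co1c_ne co1_h1 co1_h2⟩
  intro e
  have h1 : Nat.card (K co1L) ≤ 2690072985600 := (suz_le H.toLet).2
  rw [e, Subgroup.card_top, Cfsg.Agent.S0399.result.2] at h1
  norm_num at h1

theorem posCo1 : PairAut Spor.Co1 := pairAut_of_out_one Cfsg.Agent.S2069.result pairCo1

end Cfsg.Agent.SP.PosB
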