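import Cfsg.Agent.SP.Pos.B.Gen
import Cfsg.Agent.SP.Pos.B.Leech
import Cfsg.Agent.S1578
import Cfsg.Agent.S1579
import Cfsg.Agent.S1580
import Cfsg.Agent.S2071

/-! # S5755: the row `Co₃` (`McL:2 > McL` on 276 pairs) (helper26) -/

set_option autoImplicit false

namespace Cfsg.Agent.SP.PosB

open Cfsg Cfsg.Agent.SP Cfsg.Agent.SporadicStructure.Co2RankThree
open Cfsg.Agent.Leech.FrameAux Cfsg.Agent.Leech.FrameTriplesOf

/-- the fixed vector -/
def v3 : leechLattice := Spor.leechV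

/-- An element of `Co₃` as an element of `Co₀`. -/
def toCo0' (γ : Spor.Co3) : Co0 := ⟨γ.1, γ.2.1⟩

theorem toCo0'_v (γ : Spor.Co3) : toCo0' γ • v3 = v3 := γ.2.2

/-- Conversely. -/
def ofCo0' (g : Co0) (hg : g • v3 = v3) : Spor.Co3 := ⟨g.1, g.2, hg⟩

theorem v3_norm : dt v3 v3 = 48 := by
  rw [← norm_eq]
  change sqNorm Spor.vecV = 48
  decide

/-- the 552 vectors -/
def X3 : Set leechLattice := {x | dt x x = 32 ∧ dt v3 x = 24}

theorem mem_X3 (x : leechLattice) : x ∈ X3 ↔ (sqNorm (x : GolayPt → ℤ) = 32 ∧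
    sqNorm ((v3 - x : leechLattice) : GolayPt → ℤ) = 32) := by
  rw [norm_eq, norm_eq]
  have := v3_norm
  simp only [dt_sub_left, dt_sub_right]
  rw [dt_comm x v3]
  constructor
  · rintro ⟨h1, h2⟩; constructor <;> omega
  · rintro ⟨h1, h2⟩; exact ⟨h1, by omega⟩

theorem sub_mem_X3 {x : leechLattice} (hx : x ∈ X3) : v3 - x ∈ X3 := by
  have := v3_norm
  obtain ⟨h1, h2⟩ := hx
  constructor
  · simp only [dt_sub_left, dt_sub_right]
    rw [dt_comm x v3]; omega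
  · rw [dt_sub_right]; omega

theorem trans_X3 {x y : leechLattice} (hx : x ∈ X3) (hy : y ∈ X3) : ∃ g : Co0, g • v3 = v3 ∧ g • x = y :=
  Cfsg.Agent.S1579.result v3 x y (by rw [norm_eq]; exact v3_norm) ((mem_X3 x).1 hx) ((mem_X3 y).1 hy)

theorem trans_275 {w x y : leechLattice} (hw : w ∈ X3) (hx : x ∈ X3) (hy : y ∈ X3) (h1 : dt w x = 16)
    (h2 : dt w y = 16) : ∃ g : Co0, g • v3 = v3 ∧ g • w = w ∧ g • x = y :=
  (Cfsg.Agent.S1580.result v3 w (by rw [norm_eq]; exact v3_norm) ((mem_X3 w).1 hw)).2 x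
    ⟨((mem_X3 x).1 hx).1, ((mem_X3 x).1 hx).2, h1⟩ y ⟨((mem_X3 y).1 hy).1, ((mem_X3 y).1 hy).2, h2⟩

theorem exists_w : ∃ w x, w ∈ X3 ∧ x ∈ X3 ∧ dt w x = 16 := by
  have hv : sqNorm ((v3 : leechLattice) : GolayPt → ℤ) = 48 := by rw [norm_eq]; exact v3_norm
  obtain ⟨w, hw⟩ := Set.nonempty_of_ncard_ne_zero ((Cfsg.Agent.S1578.result v3 hv).trans_ne (by norm_num))
  obtain ⟨x, hx⟩ := Set.nonempty_of_ncard_ne_zero ((Cfsg.Agent.S1580.result v3 w hv hw).1.trans_ne (by norm_num))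
  exact ⟨w, x, (mem_X3 w).2 hw, (mem_X3 x).2 ⟨hx.1, hx.2.1⟩, hx.2.2⟩

theorem pairCo3 : Pair Spor.Co3 := by
  obtain ⟨w, x0, hw, hx0, hd0⟩ := exists_w
  have hv := v3_norm
  have hc : ∀ g : Co0, g • v3 = v3 → ∀ x, g • (v3 - x) = v3 - g • x := fun g hg x => by rw [co0_sub, hg]
  have hw1 := hw.1
  have hw2 : dt w v3 = 24 := by rw [dt_comm]; exact hw.2
  have hww : dt w (v3 - w) = -8 := by rw [dt_sub_right]; omega
  refine pair_of_swap (T := Spor.Co3) (fun x => v3 - x) (fun x => sub_sub_cancel _ _)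
    (fun g x => hc _ (toCo0'_v g) x) w ?_ ?_ ?_
  · intro h
    have h' : v3 - w = w := h
    rw [h'] at hww; omega
  · obtain ⟨g, h1, h2⟩ := trans_X3 hw hx0
    have e : ofCo0' g h1 • w = x0 := h2
    refine ⟨ofCo0' g h1, ?_, ?_⟩ <;> rw [e] <;> intro h
    · rw [h] at hd0; omega
    · have h' : x0 = v3 - w := h
      rw [h'] at hd0; omega
  · intro t
    obtain ⟨s, hs1, hs2⟩ := trans_X3 hw (sub_mem_X3 hw)
    have hs3 : s • (v3 - w) = w := by rw [hc _ hs1, hs2, sub_sub_cancel]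
    have hx : t • w ∈ X3 := ⟨(dt_smul (toCo0' t) _ _).trans hw.1, (dt_smul_of_fix (toCo0'_v t) _).trans hw.2⟩
    generalize t • w = x at hx
    have hsx : s • x ∈ X3 := ⟨(dt_smul _ _ _).trans hx.1, (dt_smul_of_fix hs1 _).trans hx.2⟩
    have hoy : dt (v3 - w) x = 24 - dt w x := by rw [dt_sub_left, hx.2]
    have hd : dt w (s • x) = 24 - dt w x := by
      conv_lhs => rw [← hs3]
      rw [dt_smul, hoy]
    have fin : ∀ m : Co0, m • v3 = v3 → m • w = w → ∀ z, m • s • x = z → (z = x ∨ z = v3 - x) →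
        ∃ g : Spor.Co3, g • w = v3 - w ∧ (g • x = x ∨ g • x = v3 - x) := by
      intro m h1 h2 z h3 h4
      refine ⟨ofCo0' (m * s) (by rw [mul_smul, hs1, h1]), ?_, ?_⟩
      · change (m * s) • w = v3 - w
        rw [mul_smul, hs2, hc _ h1, h2]
      · change (m * s) • x = x ∨ (m * s) • x = v3 - x
        rw [mul_smul, h3]; exact h4
    have hox := sub_mem_X3 hx
    have hd2 : dt w (v3 - x) = 24 - dt w x := by rw [dt_sub_right, hw2]
    have hneg : ∀ y ∈ X3, x ≠ -y := by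
      intro y hy h
      have h1 := hx.2
      have h2 := hy.2
      rw [h, dt_neg_right] at h1
      omega
    have hw' := sub_mem_X3 hw
    rcases dt_min hw.1 hx.1 with h | h | h
    · exact fin 1 (one_smul _ _) (one_smul _ _) _ rfl (Or.inr (by rw [one_smul, h, hs2]))
    · exact absurd h (hneg w hw)
    rcases dt_min hw'.1 hx.1 with h' | h' | h'
    · exact fin 1 (one_smul _ _) (one_smul _ _) _ rfl (Or.inr (by rw [one_smul, h', hs3, sub_sub_cancel]))
    · exact absurd h' (hneg _ hw')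
    have h3 : dt w x = 16 ∨ dt w x = 8 := by omega
    rcases h3 with h3 | h3
    · have hosx := sub_mem_X3 hsx
      have hd3 : dt w (v3 - s • x) = 16 := by rw [dt_sub_right, hw2]; omega
      obtain ⟨m, h1, h2, h4⟩ := trans_275 hw hosx hx hd3 h3
      refine fin m h1 h2 _ rfl (Or.inr ?_)
      rw [hc _ h1] at h4
      exact (sub_sub_cancel _ _).symm.trans (congrArg (fun z => v3 - z) h4)
    · obtain ⟨m, h1, h2, h4⟩ := trans_275 hw hsx hox (by omega) (by omega)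
      exact fin m h1 h2 _ h4 (Or.inr rfl)

theorem posCo3 : PairAut Spor.Co3 := pairAut_of_out_one Cfsg.Agent.S2071.result pairCo3

end Cfsg.Agent.SP.PosB
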