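import Cfsg.Agent.SP.Pos.C.Line
import Cfsg.Agent.SP.Pos.B.Gen
import Cfsg.Agent.Fischer.Fi22Sub3510
import Cfsg.Agent.S1696
import Cfsg.Agent.S2079

/-! # S5755: the row `Fi22` (`N(3A) > C(3A)`, on the 3510 transpositions) (helper87) -/

set_option autoImplicit false
set_option maxRecDepth 100000
set_option exponentiation.threshold 5000

namespace Cfsg.Agent.SP.PosC.F22

open Cfsg Cfsg.Agent.SP Cfsg.Agent.SP.PosC.Line Cfsg.Agent.Lib.PermNet Cfsg.Agent.Lib.PermNetOrbit
open Cfsg.Agent.Fischer.Fi22Perm Cfsg.Agent.Fischer.Fi22Sub3510 Cfsg.Agent.Fischer.Fi22Nets3510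
open Cfsg.Agent.Fischer.Fi22PtsRep (gen gen_sq gen_comm gen_cox)
open Cfsg.Spor.Fi22 (Gen)

theorem φ_inj : Function.Injective φ := by
  have hs : IsSimpleGroup Spor.Fi22 := Cfsg.Agent.S1696.result.1
  rw [← MonoidHom.ker_eq_bot_iff]
  refine (hs.eq_bot_or_eq_top_of_normal _ inferInstance).resolve_right fun h => ?_
  have h1 : (PresentedGroup.of .b : Spor.Fi22) ∈ φ.ker := h ▸ Subgroup.mem_top _
  have h2 := φ_b
  rw [MonoidHom.mem_ker.1 h1] at h2
  exact absurd h2 (by simp)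

theorem ua : checkEq 12 [uN, aN] [aN, uN] = true := by decide +kernel

theorem comm_a (g : Spor.Fi22) (hg : φ g 0 = 0) : g * gen .a = gen .a * g := by
  have h : H ≤ Subgroup.centralizer {gen .a} := by
    rw [H_eq, Subgroup.closure_le]
    rintro _ ⟨x, hx, rfl⟩
    rw [SetLike.mem_coe, Subgroup.mem_centralizer_singleton_iff]
    simp only [Cfsg.Agent.Fischer.Fi22Sub3510.S, Set.mem_insert_iff, Set.mem_singleton_iff] at hx
    rcases hx with rfl | rfl | rfl | rfl | rfl | rfl | rfl | rfl | rfl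
    · rfl
    · exact gen_comm (x := .c) (by decide)
    · exact gen_comm (x := .d) (by decide)
    · exact gen_comm (x := .e) (by decide)
    · exact gen_comm (x := .f) (by decide)
    · exact gen_comm (x := .g) (by decide)
    · exact gen_comm (x := .h) (by decide)
    · exact gen_comm (x := .i) (by decide)
    · apply φ_inj
      have e : φ (gen .a) = aN.perm := φ_of .a
      rw [map_mul, map_mul, φ_q_u, e]
      have h2 := wperm_eq_of_checkEq (((WOk.nil _).cons ok_a).cons ok_u) (((WOk.nil _).cons ok_u).cons ok_a) ua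
      simpa using h2
  exact Subgroup.mem_centralizer_singleton_iff.1 (h ((main.2.1 g).1 hg))

/-- The action on the 3510 transpositions. -/
noncomputable def S : Sys Spor.Fi22 Gen where
  φ := φ
  gen := gen
  sq := gen_sq
  N := 2 ^ 12
  nw := fun w => w.map net
  ok := wok
  hw := fun w => by
    induction w with
    | nil => exact map_one _
    | cons x w ih =>
      have e : φ (gen x) = (net x).perm := φ_of x
      rw [List.map_cons, List.prod_cons, map_mul, ih, List.map_cons, wperm_cons, e]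
  d := .a
  hd := comm_a
  u := .b
  braid := gen_cox .a .b

def v0 : List Gen := [.c, .d, .e, .b, .c, .d, .h, .f, .e, .d, .c, .b, .a, .b, .c, .d, .e, .f, .h, .d, .c, .b, .e, .d, .c]

def v1 : List Gen := [.c, .d, .h, .e, .f, .d, .e, .c, .d, .h, .g, .f, .e, .d, .c, .b]

def v2 : List Gen := [.b, .c, .d, .e, .b, .c, .d, .h, .f, .e, .d, .c, .b, .a, .b, .c, .d, .e, .f, .h, .d, .c, .b, .e, .d, .c, .h,
  .g, .f, .e, .d]

def v3 : List Gen := [.a, .e, .d, .f, .e, .g, .f, .h, .d, .e, .i, .h, .d, .e, .f, .g, .c, .d, .e, .b, .c, .d, .h, .f, .e, .d, .c,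
  .b, .a, .b, .c, .d, .e, .f, .h, .d, .c, .b, .e, .d, .c, .i, .h, .c, .d, .e, .b, .c, .d, .h, .f, .e, .d, .c,
  .b, .a, .b, .c, .d, .e, .f, .h, .d, .c, .b, .e, .d, .c, .g, .f, .e, .d, .h, .i]

def v4 : List Gen := [.b, .d, .h, .e, .d]

def v5 : List Gen := [.d, .h, .e, .d, .b]

def v6 : List Gen := [.c, .d, .b, .c, .a, .b]

def v7 : List Gen := [.e, .d, .h, .d, .e]

def v8 : List Gen := [.e, .d, .f, .g, .h, .d, .i, .h, .c, .d, .e, .b, .c, .d, .h, .f, .e, .d, .c, .b, .a, .b, .c, .d, .e, .f, .h,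
  .d, .c, .b, .e, .d, .c, .e, .d, .h, .i, .f, .e, .d, .h, .g, .f, .d, .e, .a]

def v9 : List Gen := [.c, .d, .h, .i, .e, .d, .h, .f, .e, .d, .c, .b]

def v10 : List Gen := [.a, .d, .h, .i, .e, .f, .d, .e, .b, .h, .d, .a]

def v11 : List Gen := [.d, .h, .i, .b, .a, .c, .d, .e, .b, .c, .d, .h, .f, .e, .d, .c, .b, .a, .b, .c, .d, .e, .f, .h, .d, .c, .b,
  .e, .d, .c, .h, .d]

def v12 : List Gen := [.a, .g, .f, .e, .d, .h, .i, .e, .d, .h, .c, .d, .e, .b, .c, .d, .h, .f, .e, .d, .c, .b, .a, .b, .c, .d, .e,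
  .f, .h, .d, .c, .b, .e, .d, .c, .g, .f, .e, .d]

def v13 : List Gen := [.d, .e, .h, .i, .d, .h, .f, .e, .d, .a]

def v14 : List Gen := [.d, .e, .h, .c, .d, .e, .b, .c, .d, .h, .f, .e, .d, .c, .b, .a, .b, .c, .d, .e, .f, .h, .d, .c, .b, .e, .d,
  .c, .d, .h, .f, .e, .d, .b]

def v15 : List Gen := [.d, .e, .h, .d, .i, .h, .f, .e, .d, .a, .b, .a]

def v16 : List Gen := [.a, .b, .a, .d, .e, .h, .i, .d, .h, .f, .e, .d]

def v17 : List Gen := [.d, .h, .g, .e, .d, .a]

def v18 : List Gen := [.d, .e, .h, .i, .c, .d, .e, .b, .c, .d, .h, .f, .e, .d, .c, .b, .a, .b, .c, .d, .e, .f, .h, .d, .c, .b, .e,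
  .d, .c, .i, .d, .h, .f, .e, .d, .a]

def s1 : List (List Gen) := [[.a], [.b], [.d], [.g], [.a], [.e], [.h], [.f], [.i], [.e], [.d], [.h], [.g], [.i], v0, [.i], [.h], [.g],
  [.d], [.f], [.e], [.h], [.i], [.f], [.d], [.g], [.h], [.e], [.d], [.i], [.e], [.f], v0, [.g], [.f], [.e]]

def w0 : List Gen := []

def k0 : List (List Gen) := [[.a], [.d], [.e], [.h], [.g], [.f], [.i], [.d], [.e], [.g], [.d], [.h], [.i], [.f], [.d], v0, [.i], [.h],
  [.g], [.d], [.f], [.e], [.i], [.h], [.d], [.f], [.h], v0, [.i]]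

def z0 : List (ℕ × List Gen) := [(1, [.a]), (3, [.a]), (192, [.a])]

def w1 : List Gen := v1

def k1 : List (List Gen) := [[.b], [.e], [.d], [.f], [.h], [.e], [.g], [.d], [.f], [.e], [.h], [.f], [.g], [.d], [.f], v0, [.g], [.h],
  [.d], [.f], [.e], [.d], [.f], [.g], [.h]]

def z1 : List (ℕ × List Gen) := [(0, [.a]), (4, v2), (506, [.a]), (15, [.b]), (21, v3), (92, [.b]), (725, v3), (397, [.b]), (1062, v4),
  (1629, v5)]

def w2 : List Gen := v6

def k2 : List (List Gen) := [[.d], [.a], [.b], [.a], v7, [.f], [.i], [.g], v7, [.f], v0, [.g], [.i], [.f], v7, [.f], [.g], [.i], v7, v0,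
  [.i], [.g], [.f], v7, [.f], v0]

def z2 : List (ℕ × List Gen) := [(676, [.a]), (3, [.b]), (367, v8)]

def w3 : List Gen := v9

def k3 : List (List Gen) := [[.e], [.f], [.i], [.h], [.e], v10, v0, [.h], [.i], [.h], v10, v0, [.h], v11, v10, v12, v10, v11]

def z3 : List (ℕ × List Gen) := [(0, [.a]), (264, v13), (211, [.a]), (367, v14), (89, v14), (71, v15), (6, v16), (653, v17), (575, v18)]

theorem line : S.lineB 1 2 = true := by decide +kernel
theorem c1 : s1.all (S.inA 1 2) = true := by decide +kernel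
theorem c2 : Nat.beq (sat (s1.map S.nw) 1 (Sys.mask [0, 450, 16, 192])) (Nat.sub (Nat.pow 2 3510) 1) = true := by decide +kernel
theorem a0 : S.repB (fun _ => true) 1 2 0 w0 k0 z0 = true := by decide +kernel
theorem b0 : S.covB U2 w0 k0 z0 = true := by decide +kernel
theorem a1 : S.repB (fun _ => true) 1 2 450 w1 k1 z1 = true := by decide +kernel
theorem b1 : S.covB U2 w1 k1 z1 = true := by decide +kernel
theorem a2 : S.repB (fun _ => true) 1 2 16 w2 k2 z2 = true := by decide +kernel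
theorem b2 : S.covB U2 w2 k2 z2 = true := by decide +kernel
theorem a3 : S.repB (fun _ => true) 1 2 192 w3 k3 z3 = true := by decide +kernel
theorem b3 : S.covB U2 w3 k3 z3 = true := by decide +kernel
theorem out : S.outB [.c] 16 = true := by decide +kernel

theorem good (t : Spor.Fi22) : Good ⊤ S.x0 (t * S.x0 * t⁻¹) := by
  have hE : ∀ w, (fun _ : List Gen => true) w = true → S.ev w ∈ (⊤ : Subgroup Spor.Fi22) :=
    fun _ _ => Subgroup.mem_top _
  refine S.good_all inferInstance line (fun g => ?_) (UR := U2) (fun g hg => ?_) c1 c2 ?_ t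
  · change (2 ^ 3510 - 1).testBit (φ g 0) = true
    rw [Nat.testBit_two_pow_sub_one]
    exact decide_eq_true (main.2.2 g)
  · have : φ g 1 ∈ {p : ℕ | ∃ x ∈ H, φ x 1 = p} := ⟨g, (main.2.1 g).1 hg, rfl⟩
    rw [orbit2] at this
    exact this
  · intro r hr
    simp only [List.mem_cons, List.not_mem_nil, or_false] at hr
    rcases hr with rfl | rfl | rfl | rfl
    · exact S.repGood inferInstance hE line a0 b0
    · exact S.repGood inferInstance hE line a1 b1
    · exact S.repGood inferInstance hE line a2 b2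
    · exact S.repGood inferInstance hE line a3 b3

open Cfsg.Agent.R08 Cfsg.Agent.R08.LiftCls Cfsg.Agent.S2079 in
open Cfsg.Agent.Fischer.Fi23Class (K) in
open Cfsg.Agent.Fischer.Fi23Cover (kgen) in
open Cfsg.Agent.R08.FiTwentyThree (pi zK) in
/-- An outer automorphism fixing `a` and `b`. -/
theorem exists_outer : ∃ α : MulAut Spor.Fi22, (∀ x : Spor.Fi22, α ≠ MulAut.conj x) ∧ α (gen .a) = gen .a ∧
    α (gen .b) = gen .b := by
  have hc := LemmaVInst.clsK
  obtain ⟨γ, h1, -, h3, h4⟩ := X4Gamma.exists_gamma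
  have hz : γ zK = zK := h3
  have hker : pi.ker ≤ (pi.comp γ.toMonoidHom).ker := by
    intro y hy
    rw [MonoidHom.mem_ker] at hy ⊢
    show pi (γ y) = 1
    rcases (hc.ext.ker y).1 hy with h | h
    · rw [h, map_one, map_one]
    · rw [h, hz]
      exact hc.ext.mapz
  let f : Spor.Fi22 →* Spor.Fi22 := pi.liftOfSurjective hc.ext.surj ⟨pi.comp γ.toMonoidHom, hker⟩
  have hf : ∀ y, f (pi y) = pi (γ y) := fun y =>
    MonoidHom.liftOfRightInverse_comp_apply pi _ _ ⟨pi.comp γ.toMonoidHom, hker⟩ y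
  have hff : f.comp f = MonoidHom.id _ := by
    refine MonoidHom.ext fun x => ?_
    obtain ⟨y, rfl⟩ := hc.ext.surj x
    show f (f (pi y)) = pi y
    rw [hf, hf, h4]
  have hk : ∀ x : Gen, pi (kgen x) = gen x := by
    intro x
    have h : kgen x = Cfsg.Agent.R01.AlphaFi23.t x := by
      apply Subtype.ext
      cases x <;> rfl
    rw [h]
    exact FiTwentyThree.pi_t x
  have hfix : ∀ x : Gen, x ≠ .h → f (gen x) = gen x := by
    intro x hx
    have e : pi zK = 1 := hc.ext.mapz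
    have e2 : γ (kgen x) = zK * kgen x := h1 x hx
    rw [← hk, hf, e2, map_mul, e, one_mul]
  refine ⟨f.toMulEquiv f hff hff, fun x hx => ?_, hfix .a (by decide), hfix .b (by decide)⟩
  obtain ⟨k, rfl⟩ := hc.ext.surj x
  have h5 : ∀ y, pi (γ y) = pi (k * y * k⁻¹) := by
    intro y
    rw [← hf, map_mul, map_mul, map_inv]
    exact DFunLike.congr_fun hx (pi y)
  have h6 := conj_of_quot γ k h5 (kgen .a)
  have ha : kgen .a ∈ FiTwentyThree.S := by
    have h : kgen .a = Cfsg.Agent.R01.AlphaFi23.t .a := by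
      apply Subtype.ext
      rfl
    rw [h]
    exact LemmaVInst.ta_mem
  have h7 : k * kgen .a * k⁻¹ ∈ FiTwentyThree.S := hc.conj k ha
  rw [← h6, h1 .a (by decide)] at h7
  refine hc.nz _ ha ?_
  have h8 : kgen .a * zK = zK * kgen .a := hc.ext.comm _
  rw [h8]
  exact h7

end Cfsg.Agent.SP.PosC.F22

namespace Cfsg.Agent.SP

open Cfsg.Agent.SP.PosC.F22 Cfsg.Agent.SP.PosC.Line in
theorem posFi22 : PairAut Cfsg.Spor.Fi22 := by
  refine pairAut_of_good S.x0 S.x0_cube ⟨_, S.outB_spec out⟩ fun τ => ?_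
  obtain ⟨α, h1, h2, h3⟩ := exists_outer
  have hx : α S.x0 = S.x0 := by
    rw [S.x0_eq, map_mul, map_mul]
    exact congrArg₂ (· * ·) (congrArg₂ (· * ·) h2 h3) (congrArg₂ (· * ·) h2 h3)
  rcases PosB.aut_cases Cfsg.Agent.S2079.result h1 τ with ⟨t, rfl⟩ | ⟨t, rfl⟩
  · obtain ⟨y, -, e⟩ := good t
    exact ⟨y, e⟩
  · obtain ⟨y, -, e⟩ := good t
    refine ⟨y, e.1, ?_⟩
    rw [MulAut.mul_apply, hx]
    exact e.2

end Cfsg.Agent.SP
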