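import Cfsg.Agent.SP.Pos.C.Line
import Cfsg.Agent.SP.Pos.B.Gen
import Cfsg.Agent.Fischer.Fi23Simple
import Cfsg.Agent.Fischer.Fi23Class
import Cfsg.Agent.S2080

/-! # S5755: the row `Fi23` (`N(3A) > C(3A)`, on the 31671 transpositions) (helper87) -/

set_option autoImplicit false
set_option maxRecDepth 100000
set_option exponentiation.threshold 50000

namespace Cfsg.Agent.SP.PosC.F23

open Cfsg Cfsg.Agent.SP Cfsg.Agent.SP.PosC.Line Cfsg.Agent.Lib.PermNet Cfsg.Agent.Lib.PermNetOrbit
open Cfsg.Agent.Fischer Cfsg.Agent.Fischer.Fi23Rel Cfsg.Agent.Fischer.Fi23Hom Cfsg.Agent.Fischer.Fi23Orb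
  Cfsg.Agent.Fischer.Fi23OrbData Cfsg.Agent.Fischer.Fi23Z
open Cfsg.Spor.Fi23 (Gen)

theorem fin : Finite Spor.Fi23 := Nat.finite_of_card_ne_zero (by rw [Fi23Simple.card_Fi23]; norm_num)

theorem stab : (∀ g, rho g 0 = 0 ↔ g ∈ H) ∧ ∀ g, rho g 0 < 31671 := by
  have h := index_and_suborbits Fi23Simple.index_H.le (by rw [Fi23Simple.index_H]; norm_num)
  exact ⟨h.2.1, h.2.2.1⟩

/-- The letters: the generators and `z0`. -/
def og (x : Option Gen) : Spor.Fi23 := Option.rec z0 gen x

/-- The networks of the letters. -/
noncomputable def on (x : Option Gen) : Net := Option.rec nz net x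

theorem rho_og (x : Option Gen) : rho (og x) = (on x).perm := by
  cases x with
  | none => exact rho_z0
  | some x => exact rho_gen x

theorem og_sq (x : Option Gen) : og x * og x = 1 := by
  have := fin
  cases x with
  | none => exact Fi23Class.z0_sq Fi23Simple.card_Fi23.le
  | some x => exact Fi23Final.gen_sq x

/-- The action on the 31671 transpositions. -/
noncomputable def S : Sys Spor.Fi23 (Option Gen) where
  φ := rho
  gen := og
  sq := og_sq
  N := 2 ^ 15
  nw := fun w => w.map on
  ok := fun w L hL => by
    obtain ⟨x, _, rfl⟩ := List.mem_map.1 hL
    cases x with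
    | none => exact ok_z
    | some x => exact wok [x] _ List.mem_cons_self
  hw := fun w => by
    induction w with
    | nil => exact map_one _
    | cons x w ih => rw [List.map_cons, List.prod_cons, map_mul, ih, List.map_cons, wperm_cons, rho_og]
  d := none
  hd := fun g hg => by
    have := fin
    exact Fi23Final.h_comm Fi23Simple.card_Fi23.le g ((stab.1 g).1 hg)
  u := some .j
  braid := by
    have := fin
    have h : z0 * gen .j * z0 = gen .j * z0 * gen .j := Fi23Class.z0_braid Fi23Simple.card_Fi23.le
    have h1 : z0 * z0 = 1 := og_sq none
    have h2 : gen .j * gen .j = 1 := og_sq (some .j)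
    change (z0 * gen .j) ^ 3 = 1
    calc (z0 * gen .j) ^ 3 = (z0 * gen .j * z0) * (gen .j * z0 * gen .j) := by rw [pow_succ, pow_two]; group
      _ = z0 * gen .j * (z0 * z0) * gen .j * z0 := by rw [← h]; group
      _ = z0 * (gen .j * gen .j) * z0 := by rw [h1]; group
      _ = 1 := by rw [h2, mul_one, h1]

def v0 : List (Option Gen) := [some .g, some .j]

def v1 : List (Option Gen) := [some .j, some .d, some .h, some .e, some .d]

def v2 : List (Option Gen) := [none, some .j, none, some .d, some .f, some .e, some .d, some .h, some .d, some .c, some .b, some .a, some .i,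
  some .h, some .d, some .e, some .c, some .d, some .h, some .i, some .b, some .c, some .d, some .h, some .e,
  some .f, some .d]

def v3 : List (Option Gen) := [none, some .f, some .e, some .d, some .c, some .b, some .h, some .i, some .d, some .h, some .c, some .d,
  some .e, some .f]

def v4 : List (Option Gen) := [some .h, some .d, some .i, some .e, some .c, some .d, some .h, some .j]

def v5 : List (Option Gen) := [some .g, some .j, none, some .f, some .g, some .j]

def v6 : List (Option Gen) := [some .e, some .d, some .h, some .c, some .d, some .e, some .f, some .e, some .d, some .c, some .h, some .d,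
  some .e]

def v7 : List (Option Gen) := [some .h, some .i, some .d, some .h, some .j]

def v8 : List (Option Gen) := [some .g, some .f, some .e, some .d, some .h, some .i, some .c, some .d, some .h, some .b, some .c, some .d,
  some .e, some .f, some .g, some .j]

def v9 : List (Option Gen) := [some .d, some .e, some .f, some .c, some .d, none, some .b, some .c, some .e, some .d]

def v10 : List (Option Gen) := [some .d, some .h, some .e, some .d, some .i, none, some .f, some .e, some .h, some .d]

def v11 : List (Option Gen) := [some .d, some .h, some .i, some .c, some .j, none, some .j, some .d, some .b, some .c, some .h, some .d]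

def v12 : List (Option Gen) := [some .a, some .b, some .c, some .d, some .e, some .f, some .h, some .i, some .d, some .h, some .j, some .e,
  some .d, some .c, some .b, some .a]

def v13 : List (Option Gen) := [some .d, some .c, some .e, some .f, some .d, some .e, some .b, some .c, some .d, none]

def v14 : List (Option Gen) := [some .d, some .e, some .h, some .i, some .d, some .h, some .f, some .e, some .d, none]

def v15 : List (Option Gen) := [some .h, some .d, some .e, some .f, some .i, some .c, some .d, some .e, some .b, some .c, some .d, some .h,
  none]

def v16 : List (Option Gen) := [some .j, some .a, some .e, some .d, some .c, some .f, some .e, some .d, some .h, some .d, some .e, some .f,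
  some .c, some .d, some .e]

def v17 : List (Option Gen) := [some .e, some .d, some .h, some .c, some .d, some .e, some .d, some .j]

def v18 : List (Option Gen) := [some .d, some .c, some .e, some .f, some .d, some .e, some .c, some .d, some .a, none]

def v19 : List (Option Gen) := [none, some .a, some .d, some .c, some .e, some .h, some .i, some .h, some .f, some .e, some .d]

def s1 : List (List (Option Gen)) := [[none], [some .j], [some .a], [some .d], [none], [some .e], [some .c], [some .h], [some .b], [some .d],
  [some .f], [some .c], [some .a], [some .i], [some .d], [some .e], [some .h], [some .i], [some .f], [some .d],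
  [some .c], [some .b], [some .h], [some .e], [some .d], [some .a], [some .c], [some .e], [some .h], [some .i],
  [some .f], [some .b], [some .a], [some .h], [some .d], [some .c], [some .e], [some .b], [some .h], [some .i],
  [some .d], [some .f], [some .a], [some .h], [some .e], [some .c], [some .i], [some .d], [some .f], [some .b],
  [some .c], [some .h], [some .e], [some .b], [some .a], [some .d], [some .e], [some .b]]

def w0 : List (Option Gen) := []

def k0 : List (List (Option Gen)) := [[none], [some .a], [some .d], [some .b], [some .c], [some .e], [some .h], [some .b], [some .d], [some .i],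
  [some .e], [some .f], [some .h], [some .a], [some .c], [some .d], [some .i], [some .e], [some .c], [some .b],
  [some .h], [some .d], [some .a], [some .c], [some .i], [some .b], [some .d], [some .h], [some .e], [some .f],
  [some .i], [some .a], [some .d], [some .e], [some .c], [some .d], [some .b], [some .h], [some .f], [some .d],
  [some .c], [some .e], [some .d], [some .i], [some .b], [some .a], [some .f], [some .c], [some .e], [some .h],
  [some .d], [some .i], [some .b], [some .f], [some .c], [some .e], [some .h], [some .b], [some .a], [some .d],
  [some .e], [some .b]]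

def z0 : List (ℕ × List (Option Gen)) := [(1, [none]), (2, [none]), (224, [none])]

def w1 : List (Option Gen) := v0

def k1 : List (List (Option Gen)) := [[some .j], [some .d], [some .c], [some .e], [some .h], [some .i], [some .b], [some .d], [some .a], [some .h],
  [some .c], [some .d], [some .e], [some .b], [some .c], [some .d], [some .h], [some .i], [some .d], [some .c],
  [some .b], [some .a], [some .h], [some .e], [some .d], [some .c], [some .b], [some .h], [some .d], [some .a],
  [some .e], [some .c], [some .d], [some .h], [some .e], [some .c], [some .d], [some .b], [some .e], [some .c]]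

def z1 : List (ℕ × List (Option Gen)) := [(0, [none]), (3, [some .j]), (6531, [none]), (8002, [some .j]), (501, v1), (153, [some .j]), (558, v2),
  (3181, v3), (2812, v4)]

def w2 : List (Option Gen) := v5

def k2 : List (List (Option Gen)) := [[some .f], [none], [some .j], [some .c], [some .h], [some .d], [some .b], [none], [some .h], [some .i],
  [some .a], [some .c], [some .b], [some .d], [some .h], [some .d], [some .c], v6, [some .b], [some .i],
  [some .h], [some .a], [some .c], [some .d], [some .c], [some .b], [some .h], v6, [some .i], [some .b],
  [some .a], [some .c], [some .d], [some .h], [some .b], [some .d], [some .c], [some .a], [some .i], [some .b],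
  [some .d], [some .h], [some .i], v6, [some .i], [some .h], [some .d]]

def z2 : List (ℕ × List (Option Gen)) := [(1877, [none]), (2, [some .j]), (1117, v7)]

def w3 : List (Option Gen) := v8

def k3 : List (List (Option Gen)) := [[some .b], [some .c], [some .e], [some .f], [some .i], [some .h], [some .e], [some .b], [some .i], v9,
  [some .h], [some .i], v10, [some .c], [some .b], v9, [some .h], [some .i], v11, [some .e], [some .f], v9,
  [some .h], [some .i], v12, v10, v11, v10]

def z3 : List (ℕ × List (Option Gen)) := [(327, [some .j]), (5269, v13), (0, [none]), (873, v14), (11, v15), (39, v16), (286, v14), (1795, v17),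
  (1041, v14), (977, v18), (2201, v19)]

theorem line : S.lineB 1 8006 = true := by decide +kernel
theorem c1 : s1.all (S.inA 1 8006) = true := by decide +kernel
theorem c2 : Nat.beq (sat (s1.map S.nw) 1 (Sys.mask [0, 2, 8002, 224])) (Nat.sub (Nat.pow 2 31671) 1) = true := by decide +kernel
theorem a0 : S.repB (fun _ => true) 1 8006 0 w0 k0 z0 = true := by decide +kernel
theorem b0 : S.covB U1 w0 k0 z0 = true := by decide +kernel
theorem a1 : S.repB (fun _ => true) 1 8006 2 w1 k1 z1 = true := by decide +kernel
theorem b1 : S.covB U1 w1 k1 z1 = true := by decide +kernel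
theorem a2 : S.repB (fun _ => true) 1 8006 8002 w2 k2 z2 = true := by decide +kernel
theorem b2 : S.covB U1 w2 k2 z2 = true := by decide +kernel
theorem a3 : S.repB (fun _ => true) 1 8006 224 w3 k3 z3 = true := by decide +kernel
theorem b3 : S.covB U1 w3 k3 z3 = true := by decide +kernel
theorem out : S.outB [some .g] 8002 = true := by decide +kernel

theorem good (t : Spor.Fi23) : Good ⊤ S.x0 (t * S.x0 * t⁻¹) := by
  have hE : ∀ w, (fun _ : List (Option Gen) => true) w = true → S.ev w ∈ (⊤ : Subgroup Spor.Fi23) :=
    fun _ _ => Subgroup.mem_top _
  refine S.good_all inferInstance line (fun g => ?_) (UR := U1) (fun g hg => ?_) c1 c2 ?_ t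
  · change (2 ^ 31671 - 1).testBit (rho g 0) = true
    rw [Nat.testBit_two_pow_sub_one]
    exact decide_eq_true (stab.2 g)
  · have : rho g 1 ∈ {p : ℕ | ∃ x ∈ H, rho x 1 = p} := ⟨g, (stab.1 g).1 hg, rfl⟩
    rw [orb1] at this
    exact this
  · intro r hr
    simp only [List.mem_cons, List.not_mem_nil, or_false] at hr
    rcases hr with rfl | rfl | rfl | rfl
    · exact S.repGood inferInstance hE line a0 b0
    · exact S.repGood inferInstance hE line a1 b1
    · exact S.repGood inferInstance hE line a2 b2
    · exact S.repGood inferInstance hE line a3 b3

end Cfsg.Agent.SP.PosC.F23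

namespace Cfsg.Agent.SP

open Cfsg.Agent.SP.PosC.F23 Cfsg.Agent.SP.PosC.Line in
theorem posFi23 : PairAut Cfsg.Spor.Fi23 := by
  refine pairAut_of_good S.x0 S.x0_cube ⟨_, S.outB_spec out⟩ fun τ => ?_
  obtain ⟨t, rfl⟩ := PosB.inner_of_out_one Cfsg.Agent.S2080.result τ
  obtain ⟨y, -, e⟩ := good t
  exact ⟨y, e⟩

end Cfsg.Agent.SP
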