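import Cfsg.Agent.SP.Pos.C.Line
import Cfsg.Agent.SP.Pos.B.Gen
import Cfsg.Agent.Fischer.Fi24Final
import Cfsg.Agent.SporRec.Fi24Index
import Cfsg.Agent.S2081

/-! # S5755: the row `Fi24'` (`N(3A) > C(3A)`, on the 306936 transpositions) (helper87) -/

set_option autoImplicit false
set_option maxRecDepth 100000
set_option Elab.async false

namespace Cfsg.Agent.SP.PosC.F24

open Cfsg Cfsg.Agent.SP Cfsg.Agent.SP.PosC.Line Cfsg.Agent.Lib.PermNet Cfsg.Agent.Lib.PermNetOrbit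
open Cfsg.Agent.Fischer Cfsg.Agent.Fischer.Fi24RepDef Cfsg.Agent.Fischer.Fi24Rep Cfsg.Agent.Fischer.Fi24RepOrbData
open Cfsg.Agent.Fischer.Fi24RepOrb (H UG orbR orbG mem_H_gen)
open Cfsg.Spor.Fi24 (Gen)

theorem stab (g : Spor.Fi24) : rho g 0 = 0 ↔ g ∈ H := SporRec.Fi24Index.index_and_suborbits.2.1 g

/-- The action on the 306936 transpositions. -/
noncomputable def S : Sys Spor.Fi24 Gen where
  φ := rho
  gen := gen
  sq := Fi24Final.gen_sq
  N := 327680
  nw := fun w => nw w false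
  ok := fun w => wok w false
  hw := rho_word
  d := .l
  hd := fun g hg => Fi24Final.h_comm g ((stab g).1 hg)
  u := .k
  braid := Fi24Final.gen_rel .l .k

/-- The word has even length. -/
def evenB (w : List Gen) : Bool := Nat.beq (w.length % 2) 0

theorem even_mem (w : List Gen) (h : evenB w = true) : S.ev w ∈ commutator Spor.Fi24 := by
  have h1 : ∀ v : List Gen, Fi24Final.sgn (S.ev v) = (-1) ^ v.length := by
    intro v
    induction v with
    | nil => exact map_one _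
    | cons x v ih =>
      have e : Fi24Final.sgn (S.gen x) = -1 := Fi24Final.sgn_gen x
      rw [S.ev_cons, map_mul, ih, e, List.length_cons, pow_succ']
  rw [← Fi24Final.ker_sgn, MonoidHom.mem_ker, h1]
  exact Even.neg_one_pow (Nat.even_iff.2 (Nat.eq_of_beq_eq_true h))

def v0 : List Gen := [.a, .b, .c, .d, .h, .i, .e, .d, .h, .f, .g, .e, .f, .c, .d, .e, .b, .c, .d, .h, .i, .f, .d, .e, .b, .c, .d,
  .h, .j, .g, .f, .e, .d, .c, .b, .a, .b, .c, .d, .e, .f, .g, .j, .h, .d, .c, .b, .e, .d, .f, .i, .h, .d, .c,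
  .b, .e, .d, .c, .f, .e, .g, .f, .h, .d, .e, .i, .h, .d, .c, .b, .a]

def v1 : List Gen := [.l, .c]

def v2 : List Gen := [.l, .b]

def v3 : List Gen := [.b, .l]

def v4 : List Gen := [.h, .d, .e, .c, .d, .h, .f, .g, .e, .f, .d, .e, .c, .d, .h, .j, .g, .f, .e, .d, .c, .b, .a, .k]

def v5 : List Gen := [.h, .d, .e, .c, .f, .d, .b, .h, .e, .c, .d, .c, .e, .h, .b, .d, .f, .c, .e, .d, .h]

def v6 : List Gen := [.k, .b]

def v7 : List Gen := [.h, .i, .d, .h, .b, .l]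

def v8 : List Gen := [.k, .c, .a, .b, .c, .d, .h, .i, .e, .d, .h, .f, .g, .e, .f, .c, .d, .e, .b, .c, .d, .h, .i, .f, .d, .e, .b,
  .c, .d, .h, .j, .g, .f, .e, .d, .c, .b, .a, .b, .c, .d, .e, .f, .g, .j, .h, .d, .c, .b, .e, .d, .f, .i, .h,
  .d, .c, .b, .e, .d, .c, .f, .e, .g, .f, .h, .d, .e, .i, .h, .d, .c, .b, .a, .c]

def v9 : List Gen := [.l, .k, .l, .h, .d, .c, .b, .e, .d, .c, .i, .h, .d, .e, .c, .d, .h, .i, .b, .c, .d, .h]

def v10 : List Gen := [.h, .d, .c, .e, .f, .i, .d, .e, .b, .c, .d, .h, .b, .l]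

def v11 : List Gen := [.k, .d, .a, .b, .c, .d, .h, .i, .e, .d, .h, .f, .g, .e, .f, .c, .d, .e, .b, .c, .d, .h, .i, .f, .d, .e, .b,
  .c, .d, .h, .j, .g, .f, .e, .d, .c, .b, .a, .b, .c, .d, .e, .f, .g, .j, .h, .d, .c, .b, .e, .d, .f, .i, .h,
  .d, .c, .b, .e, .d, .c, .f, .e, .g, .f, .h, .d, .e, .i, .h, .d, .c, .b, .a, .d]

def v12 : List Gen := [.k, .c]

def v13 : List Gen := [.e, .i, .f, .d, .e, .k]

def v14 : List Gen := [.a, .b, .k, .a, .l, .k]

def v15 : List Gen := [.c, .b, .d, .c, .e, .d, .h, .d, .e, .c, .d, .b, .c]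

def v16 : List Gen := [.l, .e]

def v17 : List Gen := [.l, .b, .e, .f, .d, .e]

def v18 : List Gen := [.l, .d]

def v19 : List Gen := [.a, .b, .c, .d, .h, .i, .e, .d, .h, .f, .e, .d, .c, .b, .a, .k]

def v20 : List Gen := [.d, .c, .h, .l, .d, .b, .i, .h, .c, .d]

def v21 : List Gen := [.d, .c, .e, .l, .d, .b, .f, .e, .c, .d]

def v22 : List Gen := [.d, .e, .h, .i, .f, .d, .l, .k, .l, .h, .e, .d]

def v23 : List Gen := [.g, .f, .e, .d, .c, .h, .i, .d, .h, .b, .k, .c, .d, .e, .f, .g]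

def v24 : List Gen := [.g, .j, .f, .g, .b, .k]

def v25 : List Gen := [.d, .c, .j, .g, .h, .a, .b, .c, .d, .h, .i, .e, .d, .h, .f, .g, .e, .f, .c, .d, .e, .b, .c, .d, .h, .i, .f,
  .d, .e, .b, .c, .d, .h, .j, .g, .f, .e, .d, .c, .b, .a, .b, .c, .d, .e, .f, .g, .j, .h, .d, .c, .b, .e, .d,
  .f, .i, .h, .d, .c, .b, .e, .d, .c, .f, .e, .g, .f, .h, .d, .e, .i, .h, .d, .c, .b, .a, .i, .d, .h, .g, .b,
  .c, .d, .l]

def v26 : List Gen := [.d, .g, .j, .h, .f, .g, .c, .d, .c, .l]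

def v27 : List Gen := [.d, .e, .h, .d, .i, .h, .f, .e, .d, .l, .k, .l]

def v28 : List Gen := [.b, .e, .d, .c, .i, .h, .d, .a, .b, .c, .d, .h, .i, .e, .d, .h, .f, .g, .e, .f, .c, .d, .e, .b, .c, .d, .h,
  .i, .f, .d, .e, .b, .c, .d, .h, .j, .g, .f, .e, .d, .c, .b, .a, .b, .c, .d, .e, .f, .g, .j, .h, .d, .c, .b,
  .e, .d, .f, .i, .h, .d, .c, .b, .e, .d, .c, .f, .e, .g, .f, .h, .d, .e, .i, .h, .d, .c, .b, .a, .i, .h, .b,
  .c, .d, .l, .k, .l]

def v29 : List Gen := [.b, .d, .c, .e, .f, .d, .e, .b, .c, .d, .b, .l]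

def v30 : List Gen := [.b, .c, .d, .h, .e, .c, .d, .c, .b, .k]

def v31 : List Gen := [.k, .d, .c, .e, .d, .h, .i, .h, .d, .a, .b, .c, .d, .h, .i, .e, .d, .h, .f, .g, .e, .f, .c, .d, .e, .b, .c,
  .d, .h, .i, .f, .d, .e, .b, .c, .d, .h, .j, .g, .f, .e, .d, .c, .b, .a, .b, .c, .d, .e, .f, .g, .j, .h, .d,
  .c, .b, .e, .d, .f, .i, .h, .d, .c, .b, .e, .d, .c, .f, .e, .g, .f, .h, .d, .e, .i, .h, .d, .c, .b, .a, .b,
  .c, .d, .h, .f, .b, .c, .d, .e, .c, .d, .b]

def v32 : List Gen := [.d, .c, .e, .d, .h, .d, .c, .e, .i, .d, .h, .d, .e, .c, .d, .c, .b, .l, .k, .l]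

def v33 : List Gen := [.g, .f, .e, .d, .c, .b, .h, .d, .c, .a, .b, .c, .d, .h, .i, .e, .d, .h, .f, .g, .e, .f, .c, .d, .e, .b, .c,
  .d, .h, .i, .f, .d, .e, .b, .c, .d, .h, .j, .g, .f, .e, .d, .c, .b, .a, .b, .c, .d, .e, .f, .g, .j, .h, .d,
  .c, .b, .e, .d, .f, .i, .h, .d, .c, .b, .e, .d, .c, .f, .e, .g, .f, .h, .d, .e, .i, .h, .d, .c, .b, .a, .i,
  .h, .d, .e, .f, .g, .e, .f, .c, .k]

def v34 : List Gen := [.c, .b, .d, .c, .h, .i, .d, .h, .b, .c, .d, .b, .c, .l]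

def v35 : List Gen := [.g, .f, .j, .g, .d, .l, .k, .l]

def v36 : List Gen := [.g, .j, .f, .g, .b, .l]

def v37 : List Gen := [.d, .c, .e, .f, .d, .e, .b, .c, .d, .l]

def s1 : List (List Gen) := [[.l], [.g], [.h], [.c], [.k], [.l], [.d], [.h], [.e], [.c], [.f], [.g], [.e], [.j], [.g], [.d], [.h], [.e],
  [.c], [.i], [.h], [.b], [.c], [.d], [.h], [.e], [.c], [.f], [.g], [.e], [.d], [.h], [.c], [.e], [.b], [.c],
  [.i], [.d], [.h], [.e], [.c], [.f], [.g], [.e], [.j], [.g], [.d], [.e], [.h], [.c], [.b], [.c], [.f], [.g],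
  [.e], [.d], [.h], [.c], v0, [.g], [.h], [.e], [.f], [.g], [.j]]

def w0 : List Gen := []

def k0 : List (List Gen) := [[.l], [.g], [.d], [.h], [.e], [.c], [.f], [.g], [.e], [.j], [.g], [.d], [.h], [.e], [.c], [.i], [.h], [.b],
  [.c], [.d], [.h], [.e], [.c], [.f], [.g], [.e], [.d], [.h], [.c], [.e], [.i], [.h], [.b], [.c], [.d], [.h],
  [.e], [.c], [.f], [.g], [.e], [.d], [.h], [.e], [.c], [.f], [.g], [.j], [.g], [.b], [.c], [.i], [.h], [.f],
  [.e], [.d], [.h], [.e], [.c], [.f], [.g], [.d], [.e], [.h], [.c], [.i], [.h], [.b], [.c], [.f], [.g], [.d],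
  [.c]]

def z0 : List (ℕ × List Gen) := [(307841, v1), (305411, v2), (307840, v3)]

def w1 : List Gen := v4

def k1 : List (List Gen) := [[.g], [.e], [.c], [.d], [.e], [.c], [.b], [.c], [.j], [.g], [.f], [.g], [.e], [.d], [.e], [.c], [.k], [.j],
  [.f], [.g], [.e], [.b], v5, [.g], [.i], [.j], [.f], [.e], [.g], [.d], [.c], [.e], [.f], [.e], [.g], [.b], v5,
  [.g], [.j], [.f], [.e], [.g], [.d], [.c], [.e], [.f], [.e], v5, [.i], [.g], [.b]]

def z1 : List (ℕ × List Gen) := [(23, v6), (308409, v2), (442, v7), (4130, v8), (810, v9), (305411, v10), (47506, v11), (298233, v6),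
  (307841, v12), (32881, v13), (0, v2)]

def w2 : List Gen := v14

def k2 : List (List Gen) := [[.g], [.h], [.l], [.e], [.b], [.d], [.h], [.e], [.f], [.g], [.e], [.j], [.g], [.k], [.l], [.d], [.h], [.i],
  [.f], [.e], v15, [.i], [.h], [.f], [.g], [.e], [.d], [.h], [.e], [.f], [.g], [.e], [.j], [.g], [.i], [.d],
  [.h], [.e], [.f], [.e], v15, [.i], [.h], [.f], [.g], [.e], [.d], [.h], [.e], [.j], [.f], [.g], [.e], [.i],
  [.d], [.h], [.e], v15, [.i]]

def z2 : List (ℕ × List Gen) := [(2, v16), (4130, v2), (32835, v17), (1, v18)]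

def w3 : List Gen := v19

def k3 : List (List Gen) := [[.h], [.e], [.c], [.f], [.e], [.b], [.c], [.i], [.h], [.j], v20, [.e], [.f], v21, [.h], [.i], v22, [.c], v20,
  [.e], [.h], [.f], v21, [.h], [.e], [.i], v23, [.j], v21, [.h], v20, [.e], v23, [.j], [.c], v21, v20]

def z3 : List (ℕ × List Gen) := [(337, v24), (4131, v25), (109, v26), (194, v27), (61195, v28), (34443, v29), (33537, v30), (200194, v31),
  (192921, v32), (3041, v33), (33225, v34), (33832, v35), (305443, v2), (289195, v36), (0, v2), (305412, v37)]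

theorem line : S.lineB 307840 307872 = true := by decide +kernel
theorem c1 : s1.all (S.inA 307840 307872) = true := by decide +kernel
theorem c2 : Nat.beq (sat (s1.map S.nw) 1 (Sys.mask [0, 308377, 193, 305411])) UG = true := by decide +kernel
theorem a0 : S.repB evenB 307840 307872 0 w0 k0 z0 = true := by decide +kernel
theorem b0 : S.covB UR w0 k0 z0 = true := by decide +kernel
theorem a1 : S.repB evenB 307840 307872 308377 w1 k1 z1 = true := by decide +kernel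
theorem b1 : S.covB UR w1 k1 z1 = true := by decide +kernel
theorem a2 : S.repB evenB 307840 307872 193 w2 k2 z2 = true := by decide +kernel
theorem b2 : S.covB UR w2 k2 z2 = true := by decide +kernel
theorem a3 : S.repB evenB 307840 307872 305411 w3 k3 z3 = true := by decide +kernel
theorem b3 : S.covB UR w3 k3 z3 = true := by decide +kernel
theorem out : S.outB [.a, .e] 193 = true := by decide +kernel
theorem pl : Nat.beq (S.act [.l] 307872) 307840 = true := by decide +kernel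

theorem good (t : Spor.Fi24) : Good (commutator Spor.Fi24) S.x0 (t * S.x0 * t⁻¹) := by
  refine S.good_all inferInstance line (fun g => ?_) (UR := UR) (fun g hg => ?_) c1 c2 ?_ t
  · have : rho g 0 ∈ {p : ℕ | ∃ x, rho x 0 = p} := ⟨g, rfl⟩
    rw [orbG] at this
    exact this
  · have h1 : rho (gen .l) 307872 = 307840 := by
      have h := Nat.eq_of_beq_eq_true pl
      rw [S.act_eq, S.ev_cons, S.ev_nil, mul_one] at h
      exact h
    have : rho g 307840 ∈ {p : ℕ | ∃ x ∈ H, rho x 307872 = p} :=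
      ⟨g * gen .l, H.mul_mem ((stab g).1 hg) (mem_H_gen (by decide)), by rw [map_mul, Equiv.Perm.mul_apply, h1]⟩
    rw [orbR] at this
    exact this
  · intro r hr
    simp only [List.mem_cons, List.not_mem_nil, or_false] at hr
    rcases hr with rfl | rfl | rfl | rfl
    · exact S.repGood inferInstance even_mem line a0 b0
    · exact S.repGood inferInstance even_mem line a1 b1
    · exact S.repGood inferInstance even_mem line a2 b2
    · exact S.repGood inferInstance even_mem line a3 b3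

theorem x0_mem : S.x0 ∈ commutator Spor.Fi24 := by
  have h := even_mem [S.d, S.u, S.d, S.u] rfl
  rw [S.ev_cons, S.ev_cons, S.ev_cons, S.ev_cons, S.ev_nil, mul_one, ← mul_assoc] at h
  rw [S.x0_eq]
  exact h

/-- The element of order three. -/
noncomputable def x1 : Spor.Fi24' := ⟨S.x0, x0_mem⟩

theorem inv2_iff {x y : Spor.Fi24'} : y ∈ inv2 x ↔ (y : Spor.Fi24) ∈ inv2 (x : Spor.Fi24) := by
  rw [mem_inv2, mem_inv2, Subtype.ext_iff, Subtype.ext_iff]
  rfl

theorem aut_conj (τ : MulAut Spor.Fi24') : ∃ t : Spor.Fi24, ∀ x : Spor.Fi24', (τ x : Spor.Fi24) = t * x * t⁻¹ := by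
  have F := Cfsg.Agent.KFacts.FiTF.frame
  obtain ⟨_, _, s, hs, -⟩ := F.yt
  have ho := Cfsg.Agent.H997.OutCard.conjNormal_outer (K := commutator Spor.Fi24) hs fun c hc => by
    rcases F.cent c (fun r hr => hc r (F.EK (F.RE hr))) with h | h
    · rw [h]
      exact one_mem _
    · rw [h]
      exact F.EK (F.RE F.zR)
  rcases PosB.aut_cases Cfsg.Agent.S2081.result ho τ with ⟨t, rfl⟩ | ⟨t, rfl⟩
  · exact ⟨t, fun _ => rfl⟩
  · refine ⟨t * s, fun x => ?_⟩
    rw [MulAut.mul_apply, MulAut.conj_apply, Subgroup.coe_mul, Subgroup.coe_mul, MulAut.conjNormal_apply,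
      Subgroup.coe_inv]
    group

end Cfsg.Agent.SP.PosC.F24

namespace Cfsg.Agent.SP

open Cfsg.Agent.SP.PosC.F24 Cfsg.Agent.SP.PosC.Line in
theorem posFi24 : PairAut Cfsg.Spor.Fi24' := by
  refine pairAut_of_good x1 (Subtype.ext S.x0_cube)
    ⟨⟨_, even_mem [.a, .e] rfl⟩, fun h => S.outB_spec out (inv2_iff.1 h)⟩ fun τ => ?_
  obtain ⟨t, ht⟩ := aut_conj τ
  obtain ⟨y, hy, e1, e2⟩ := good t
  refine ⟨⟨y, hy⟩, Subtype.ext e1, inv2_iff.2 ?_⟩
  rw [ht]
  exact e2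

end Cfsg.Agent.SP
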