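import Cfsg.Agent.SP.Pos.HN.Build
import Cfsg.Agent.SP.Pos.HN.Mat0
import Cfsg.Agent.SP.Pos.HN.Mat1
import Cfsg.Agent.SP.Pos.HN.Mat2
import Cfsg.Agent.HN.A12Group
import Cfsg.Agent.S1701
import Cfsg.Agent.H651.HNF.Final
import Cfsg.Agent.H438.Fpr.HNA

/-! # S5755: the row of the Harada-Norton group (`U₃(8):3 > U₃(8)`) -/

set_option autoImplicit false

namespace Cfsg.Agent.SP.PosB

open Cfsg.Agent.Lib.PackMatGroup Cfsg.Agent.Lib.PackMatMul Cfsg.Agent.HN.RepData
open Cfsg.Agent.HN.Rep (rho gens gens_map)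
open Cfsg.Agent.H651.HNF

namespace HN

theorem rho_slp (ws : List (ℕ × List ℕ)) (L : List Spor.HN) :
    rho ((runG ws L).getD 0 1) = (runG ws (L.map rho)).getD 0 1 := by
  rw [runG_map, getD_map]

theorem exists_gens : ∃ a b z : Spor.HN, List.Forall₂ (CodesR C) ([a, a⁻¹, b, b⁻¹, z].map rho) LM := by
  have h0 : List.Forall₂ (CodesR C) (gens.map rho) Cfsg.Agent.HN.Rep.L := by
    rw [gens_map]; exact Cfsg.Agent.HN.Red.codesR
  have hb := codes_slp h0 cB
  rw [← rho_slp] at hb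
  generalize (runG wsB gens).getD 0 1 = b at hb
  have hz := codes_slp (List.Forall₂.cons hb h0) cZ
  rw [← List.map_cons, ← rho_slp] at hz
  generalize (runG wsZ (b :: gens)).getD 0 1 = z at hz
  have ha := codes_slp (LG := [b, z].map rho) (List.Forall₂.cons hb (List.Forall₂.cons hz List.Forall₂.nil)) cA
  rw [← rho_slp] at ha
  generalize (runG wsA [b, z]).getD 0 1 = a at ha
  refine ⟨a, b, z, .cons ha (.cons ?_ (.cons hb (.cons ?_ (.cons hz .nil))))⟩
  · rw [map_inv]; exact codes_inv ha cAI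
  · rw [map_inv]; exact codes_inv hb cBI

theorem tyH_aut (τ : MulAut Spor.HN) (g : Spor.HN) : tyH (τ g) = tyH g := by
  unfold tyH cn
  rw [MulEquiv.orderOf_eq]
  congr 1
  refine Nat.card_congr (Equiv.subtypeEquiv τ.toEquiv fun x => ?_).symm
  rw [Subgroup.mem_centralizer_singleton_iff, Subgroup.mem_centralizer_singleton_iff]
  show _ ↔ τ x * τ g = τ g * τ x
  rw [← map_mul, ← map_mul, τ.injective.eq_iff]

theorem not_real (g : Spor.HN) (hg : tyH g = .c19) : ¬ IsConj g g⁻¹ := by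
  intro h
  have : Finite Spor.HN := Nat.finite_of_card_ne_zero (by rw [table.card]; decide)
  have ho : orderOf g = 19 := by rw [table.ord g (by rw [hg]; decide), hg]; rfl
  have hN := (Cfsg.Agent.H438.Fpr.HN.cn19 (R := Subgroup.zpowers g) (by rw [Nat.card_zpowers, ho])).2
  obtain ⟨c, hc⟩ := isConj_iff.1 h
  have hpow : ∀ k : ℤ, c * g ^ k * c⁻¹ = g ^ (-k) := fun k => by rw [← conj_zpow, hc, inv_zpow']
  have hcN : c ∈ Subgroup.normalizer ((Subgroup.zpowers g : Subgroup Spor.HN) : Set Spor.HN) := by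
    refine Subgroup.mem_normalizer_fintype ?_
    rintro _ ⟨k, rfl⟩
    exact ⟨-k, (hpow k).symm⟩
  have h1 : c ^ 171 = 1 := by
    rw [← orderOf_dvd_iff_pow_eq_one, ← hN]
    exact Subgroup.orderOf_dvd_natCard _ hcN
  have h2 : Commute (c ^ 2) g := by
    have := hpow (-1)
    rw [zpow_neg, zpow_one, neg_neg, zpow_one, ← hc] at this
    show c ^ 2 * g = g * c ^ 2
    conv_rhs => rw [← this]
    rw [pow_two]; group
  have h3 : Commute c g := by
    have e : c = (c ^ 2) ^ 86 := by rw [← pow_mul, show 2 * 86 = 171 + 1 from rfl, pow_succ, h1, one_mul]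
    rw [e]; exact h2.pow_left 86
  rw [h3.eq, mul_inv_cancel_right, eq_inv_iff_mul_eq_one, ← pow_two, ← orderOf_dvd_iff_pow_eq_one, ho] at hc
  exact absurd hc (by decide)

end HN

open _root_.Cfsg.Agent.SP.PosB.HN in
/-- The row of `HN`. -/
theorem posHN : PairAut Spor.HN := by
  have : Finite Spor.HN := Nat.finite_of_card_ne_zero (by rw [table.card]; decide)
  have : IsSimpleGroup Spor.HN := Cfsg.Agent.S1701.result.1
  obtain ⟨a, b, z, h⟩ := exists_gens
  have hr : ∀ {i w}, chkRel LM i w = true → evG [a, a⁻¹, b, b⁻¹, z] (i :: w) = 1 := fun hc =>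
    Cfsg.Agent.HN.A12Group.rho_injective (by rw [← evG_map, map_one]; exact rel_spec h hc)
  have ht : ∀ {i w t}, chkTr LM i w t = true →
      Matrix.trace (rho (evG [a, a⁻¹, b, b⁻¹, z] (i :: w))).1 = (t : ZMod 31) := fun hc => by
    rw [← evG_map]; exact tr_spec h hc
  refine pairAut_of table tyH_aut not_real (fun g => Matrix.trace (rho g).1) ?_ ?_ a a⁻¹ b b⁻¹ z ?_ (ht ts1) (ht ts2)
    (ht ts3) (ht tc) (ht tx19)
  · intro g k hgk
    obtain ⟨c, rfl⟩ := isConj_iff.1 hgk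
    show Matrix.trace (rho g).1 = Matrix.trace (rho (c * g * c⁻¹)).1
    rw [map_mul, map_mul, map_inv, Units.val_mul, Units.val_mul, Matrix.trace_units_conj]
  · show Matrix.trace (rho 1).1 = 9
    rw [map_one, Units.val_one, Matrix.trace_one, Fintype.card_fin]
    rfl
  · unfold rels
    simp only [List.forall_mem_cons]
    refine ⟨?_, ?_, ?_, ?_, hr cR4, hr cR5, hr cR6, hr cR7, hr cR8, hr cR9, hr cR10, hr cR11, hr cR12, hr cR13, hr cR14, hr cR15, hr cR16, hr cR17, hr cR18, hr cR19, hr cR20, hr cR21, hr cR22, hr cR23, hr cR24, hr cR25, fun _ h => absurd h List.not_mem_nil⟩ <;> simp [evG_cons, evG_nil]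

end Cfsg.Agent.SP.PosB
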