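import Cfsg.Agent.SP.Pos.B.Gen
import Cfsg.Agent.SP.Pos.B.HeData
import Cfsg.Agent.S1682
import Cfsg.Agent.S2075

/-! # S5755: the row `He` (`S₄(4):2 > S₄(4)` on 2058 points) (helper26) -/

set_option autoImplicit false
set_option maxRecDepth 100000

namespace Cfsg.Agent.SP.PosB.He

open Cfsg Cfsg.Spor Cfsg.Spor.He Cfsg.Agent.SP Cfsg.Agent.SporadicB.HePerm Cfsg.Agent.FixBN.HeStab
open Cfsg.Agent.KFacts.He.Lv Cfsg.Agent.SP.PosB.HeData
open Cfsg.Agent.S1683 (K St K_le_St index_K index_St)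

/-- words whose squares generate a group with the same orbits as the point stabiliser -/
def us : List (List Gen) := [[.e, .d], [.f, .e, .d, .c], wh ++ [.c]]

/-- the root of the tree of a colour -/
def root (c : ℕ) : ℕ := look 0x0da025008001000 c

theorem chk : allBelow 2058 (fun y => or (Nat.beq y (root (col y)))
    (and (and (Nat.blt (look par y) 2058) (Nat.blt (look rk (look par y)) (look rk y)))
      (and (Nat.beq (col (look par y)) (col y))
        (Nat.beq (act (nth us (look4 gen y)) (act (nth us (look4 gen y)) (look par y))) y)))) = true := by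
  decide +kernel

theorem fixU : (us.all fun w => Nat.beq (act w 0) 0) = true := by decide +kernel

theorem K_eq : K = St := by
  have hf : Finite He := Nat.finite_of_card_ne_zero (by rw [card_he]; norm_num)
  refine Subgroup.eq_of_le_of_card_ge K_le_St ?_
  have h1 := K.card_mul_index
  have h2 := St.card_mul_index
  rw [index_K] at h1
  rw [index_St] at h2
  omega

theorem memK (g : He) : g ∈ K ↔ phi g 0 = 0 := by rw [K_eq]; rfl

theorem memK_wd {w : List Gen} (h : Nat.beq (act w 0) 0 = true) : wd w ∈ K := by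
  rw [memK]
  exact Fin.ext ((phi_wd_apply w 0).trans (Nat.eq_of_beq_eq_true h))

theorem reach {B : Subgroup He} (hB : ∀ x ∈ K, x * x ∈ B) : ∀ (n : ℕ) (y : Fin 2058), look rk y < n →
    ∃ (b : He) (p : Fin 2058), b ∈ B ∧ (p : ℕ) = root (col y) ∧ phi b p = y := by
  intro n
  induction n with
  | zero => intro y h; omega
  | succ n ih =>
    intro y hy
    have h := of_allBelow chk y y.2
    rw [Bool.or_eq_true] at h
    rcases h with h | h
    · exact ⟨1, y, B.one_mem, Nat.eq_of_beq_eq_true h, by rw [map_one]; rfl⟩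
    · rw [Bool.and_eq_true, Bool.and_eq_true, Bool.and_eq_true] at h
      obtain ⟨⟨h1, h2⟩, h3, h4⟩ := h
      have h1' : look par y < 2058 := Nat.le_of_ble_eq_true h1
      have h2' : look rk (look par y) < look rk y := Nat.le_of_ble_eq_true h2
      obtain ⟨b, p, hb, hp, e⟩ := ih ⟨look par y, h1'⟩ (by change look rk (look par y) < n; omega)
      have hu : wd (nth us (look4 gen y)) ∈ K := by
        rcases nth_mem us (look4 gen y) with h5 | h5
        · exact memK_wd (List.all_eq_true.1 fixU _ h5)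
        · rw [h5]; exact K.one_mem
      refine ⟨wd (nth us (look4 gen y)) * wd (nth us (look4 gen y)) * b, p, B.mul_mem (hB _ hu) hb,
        hp.trans (congrArg root (Nat.eq_of_beq_eq_true h3)), ?_⟩
      rw [phi_mul_apply, phi_mul_apply, e]
      apply Fin.ext
      rw [phi_wd_apply, phi_wd_apply]
      exact Nat.eq_of_beq_eq_true h4

theorem exists_pair : ∃ B, IsPair K B := by
  obtain ⟨N, hi⟩ : ∃ N : Subgroup K, N.index = 2 := by
    obtain ⟨N, _, _, _, -, hi, -⟩ := Cfsg.Agent.S1682.result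
    exact ⟨N, hi⟩
  obtain ⟨d, hd⟩ : ∃ d : K, d ∉ N := by
    by_contra h
    push Not at h
    have : N = ⊤ := by rw [eq_top_iff]; exact fun x _ => h x
    rw [this, Subgroup.index_top] at hi
    omega
  have hmem : ∀ x : K, (x : He) ∈ N.map K.subtype ↔ x ∈ N := fun x =>
    Subgroup.mem_map_iff_mem K.subtype_injective
  refine ⟨N.map K.subtype, isPair_of_perm phi 0 memK ?_ (Subgroup.map_subtype_le _) ?_ (d := d) d.2
    (fun h => hd ((hmem d).1 h)) fun t => ?_⟩
  · intro h
    have := index_K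
    rw [h, Subgroup.index_top] at this
    omega
  · intro x hx y hy h1 h2
    refine (hmem (⟨x, hx⟩ * ⟨y, hy⟩)).2 ?_
    rw [Subgroup.mul_mem_iff_of_index_two hi]
    exact ⟨fun h => absurd ((hmem ⟨x, hx⟩).2 h) h1, fun h => absurd ((hmem ⟨y, hy⟩).2 h) h2⟩
  · have hB : ∀ x ∈ K, x * x ∈ N.map K.subtype := fun x hx =>
      (hmem (⟨x, hx⟩ * ⟨x, hx⟩)).2 (Subgroup.mul_self_mem_of_index_two hi _)
    obtain ⟨b, p, hb, hp, e⟩ := reach hB _ (phi t 0) (Nat.lt_succ_self _)
    obtain ⟨b', p', hb', hp', e'⟩ := reach hB _ (phi d (phi t 0)) (Nat.lt_succ_self _)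
    rw [col_inv ((memK _).1 d.2)] at hp'
    have hpp : p' = p := Fin.ext (hp'.trans hp.symm)
    refine ⟨b' * b⁻¹, Subgroup.mul_mem _ hb' (Subgroup.inv_mem _ hb), ?_⟩
    rw [phi_mul_apply, phi_inv_apply e, ← hpp, e']

/-- a word moving `0` to the fixed point of `ρ(K)` -/
def sw0 : List Gen := [.f, .d, .b, .c, .d, .f, .g, .d, .c, .d, .c, .b]

theorem chkR : (wordsK.all fun w => Nat.beq (act (w.map H997.OutHe.sw) (act sw0 0)) (act sw0 0)) = true := by
  decide +kernel

theorem rho_wd (w : List Gen) : H997.OutHe.rho (wd w) = wd (w.map H997.OutHe.sw) := by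
  induction w with
  | nil => exact map_one _
  | cons x w ih => rw [wd_cons, map_mul, ih, H997.OutHe.rho_gn, List.map_cons, wd_cons]

theorem K_closure : K = Subgroup.closure {g | ∃ w ∈ wordsK, wd w = g} := by
  apply Subgroup.map_injective phi_injective
  rw [S1683.map_K, MonoidHom.map_closure]
  congr 1
  ext q
  constructor
  · rintro ⟨w, hw, rfl⟩
    exact ⟨_, ⟨w, hw, rfl⟩, phi_wd w⟩
  · rintro ⟨_, ⟨w, hw, rfl⟩, rfl⟩
    exact ⟨w, hw, phi_wd w⟩

theorem rho_K : ∀ a ∈ K, (wd sw0)⁻¹ * H997.OutHe.rho a * wd sw0 ∈ K := by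
  have h : K ≤ K.comap ((MulAut.conj (wd sw0)⁻¹).toMonoidHom.comp H997.OutHe.rho.toMonoidHom) := by
    conv_lhs => rw [K_closure]
    rw [Subgroup.closure_le]
    rintro _ ⟨w, hw, rfl⟩
    change (wd sw0)⁻¹ * H997.OutHe.rho (wd w) * (wd sw0)⁻¹⁻¹ ∈ K
    rw [inv_inv, memK, phi_mul_apply, phi_mul_apply, rho_wd]
    apply phi_inv_apply
    apply Fin.ext
    rw [phi_wd_apply, phi_wd_apply, phi_wd_apply]
    exact (Nat.eq_of_beq_eq_true (List.all_eq_true.1 chkR w hw)).symm
  intro a ha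
  have := h ha
  change (wd sw0)⁻¹ * H997.OutHe.rho a * (wd sw0)⁻¹⁻¹ ∈ K at this
  rwa [inv_inv] at this

end Cfsg.Agent.SP.PosB.He

namespace Cfsg.Agent.SP.PosB

theorem posHe : PairAut Cfsg.Spor.He := by
  have hf : Finite Cfsg.Spor.He := Nat.finite_of_card_ne_zero (by rw [Cfsg.Agent.S1695.result.2]; norm_num)
  obtain ⟨B, hB⟩ := He.exists_pair
  exact ⟨_, _, IsPair.isPairAut_of_out_two hB Cfsg.Agent.S2075.result Cfsg.Agent.H997.OutHe.rho_outer
    (map_eq_of_le _ _ He.rho_K)⟩

end Cfsg.Agent.SP.PosB
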