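import Cfsg.Agent.SP.Pos.D.J4Chk1
import Cfsg.Agent.SP.Pos.D.J4Chk2
import Cfsg.Agent.SP.Basic
import Cfsg.Agent.S1703
import Cfsg.Agent.S2068

/-! # S5755, the row of `J₄`: `C(z) = 2^{1+12}.3.M₂₂:2` over its subgroup of index two -/

set_option autoImplicit false

namespace Cfsg.Agent.SP.PosD.Janko

open Cfsg.Agent.J4C.Link
open Cfsg.Agent.J4M.Base Cfsg.Agent.J4M.Words
open Cfsg.Agent.J4M.Decomp (gg decomp)
open Cfsg.Agent.J4M.Cen (qv)
open Cfsg.Agent.J4M.CenBound (z zR_coe)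

theorem inv_Sm : Inv Sm := invB_sound inv_ok

theorem wsb_full : ∀ w ∈ wsb, ev w ∈ R ∧ Full Sm z (ev w) := by
  intro w hw
  simp only [wsb, List.mem_cons, List.not_mem_nil, or_false] at hw
  rcases hw with rfl | rfl | rfl | rfl | rfl | rfl | rfl | rfl | rfl
  · exact lv2B_sound lb0_ok
  · exact lv2B_sound lb1_ok
  · exact lv2B_sound lb2_ok
  · exact lv2B_sound lb3_ok
  · exact lv2B_sound lb4_ok
  · exact lv2B_sound lb5_ok
  · exact lv2B_sound lb6_ok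
  · exact lv2B_sound lb7_ok
  · exact lv2B_sound lb8_ok

theorem full_gg (i : Fin 7) : ∀ m, Sm.testBit m = true → Full Sm (qv m) (gg i) := by
  fin_cases i
  · exact lv1B_sound inv_Sm wsb_full (R_mem 0 (by decide +kernel)) la0_ok
  · exact lv1B_sound inv_Sm wsb_full (R_mem 3 (by decide +kernel)) la1_ok
  · exact lv1B_sound inv_Sm wsb_full (R_mem 151 (by decide +kernel)) la2_ok
  · exact lv1B_sound inv_Sm wsb_full (R_mem 152 (by decide +kernel)) la3_ok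
  · exact lv1B_sound inv_Sm wsb_full (R_mem 149 (by decide +kernel)) la4_ok
  · exact lv1B_sound inv_Sm wsb_full (R_mem 148 (by decide +kernel)) la5_ok
  · exact lv1B_sound inv_Sm wsb_full (R_mem 150 (by decide +kernel)) la6_ok

theorem z_in : Sm.testBit 960 = true := by decide +kernel

theorem good_conj {t : GG} (ht : t ∈ R) : Good z (t⁻¹ * z * t) := by
  obtain ⟨i, a, ha, b, hb, rfl⟩ := decomp t ht
  obtain ⟨m, hm, e1⟩ := inv_Sm a ha 960 z_in
  obtain ⟨n, hn, e2⟩ := inv_Sm b⁻¹ (H.inv_mem hb) 960 z_in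
  have e1' : a⁻¹ * z * a = qv m := e1
  have e2' : b⁻¹⁻¹ * z * b⁻¹ = qv n := e2
  have h := (full_gg i n hn m hm).conj (H_le_R hb)
  rw [← e1', ← e2'] at h
  generalize z = y at h ⊢
  rwa [show b⁻¹ * (b⁻¹⁻¹ * y * b⁻¹) * b = y by group,
    show b⁻¹ * ((gg i)⁻¹ * (a⁻¹ * y * a) * gg i) * b = (a * gg i * b)⁻¹ * y * (a * gg i * b) by group] at h

theorem conj_mem_cent {G : Type*} [Group G] {K : Subgroup G} (y t x : K)
    (h : (x : G) * ((t : G)⁻¹⁻¹ * y * (t : G)⁻¹) = ((t : G)⁻¹⁻¹ * y * (t : G)⁻¹) * x) :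
    t⁻¹ * x * t ∈ Subgroup.centralizer ({y} : Set K) := by
  refine Subgroup.mem_centralizer_singleton_iff.mpr (Subtype.ext ?_)
  show (t : G)⁻¹ * x * t * y = y * ((t : G)⁻¹ * x * t)
  calc _ = (t : G)⁻¹ * ((x : G) * ((t : G)⁻¹⁻¹ * y * (t : G)⁻¹)) * t := by group
    _ = _ := by rw [h]; group

theorem exists_odd (t : R) : ∃ x : Cz, t⁻¹ * (x : R) * t ∈ Cz ∧ sgn x = -1 := by
  obtain ⟨_, ⟨c, rfl, hc⟩, h⟩ := (good_conj (R.inv_mem t.2)).odd
  refine ⟨c, conj_mem_cent zR t c ?_, hc⟩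
  rw [zR_coe]
  exact h

theorem pair_R : Pair R := by
  refine ⟨_, _, isPair_of_hom (A := Cz) ?_ sgn ?_ ?_⟩
  · intro h
    have h1 := Cfsg.Agent.J4M.CenBound.card_Cz_le
    rw [h, Subgroup.card_top, Cfsg.Agent.J4M.Order.card_R] at h1
    exact absurd h1 (by norm_num)
  · obtain ⟨x, -, hx⟩ := exists_odd 1
    exact ⟨x, by rw [hx]; decide⟩
  · intro t a
    rcases Int.units_eq_one_or (sgn a) with h | h
    · exact ⟨1, by simp, by rw [h, map_one]⟩
    · obtain ⟨x, h1, h2⟩ := exists_odd t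
      exact ⟨x, h1, by rw [h, h2]⟩

theorem rho_inj : Function.Injective Cfsg.Agent.J4.Rep112.rho := by
  have := Cfsg.Agent.S1703.result.1
  rw [← MonoidHom.ker_eq_bot_iff]
  rcases (Cfsg.Agent.J4.Rep112.rho.normal_ker).eq_bot_or_eq_top with h | h
  · exact h
  · exfalso
    have h1 := Cfsg.Agent.J4M.Order.card_R
    have h2 : R = ⊥ := by
      unfold R
      rw [MonoidHom.range_eq_bot_iff, ← MonoidHom.ker_eq_top_iff, h]
    rw [h2, Subgroup.card_bot] at h1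
    exact absurd h1 (by norm_num)

theorem inner (τ : MulAut Cfsg.Spor.J4) : ∃ t : Cfsg.Spor.J4, τ = MulAut.conj t := by
  have h : (Cfsg.Inn Cfsg.Spor.J4).index = 1 := Cfsg.Agent.S2068.result
  rw [Subgroup.index_eq_one] at h
  have h1 : τ ∈ Cfsg.Inn Cfsg.Spor.J4 := h ▸ Subgroup.mem_top τ
  obtain ⟨t, ht⟩ := h1
  exact ⟨t, ht.symm⟩

end Cfsg.Agent.SP.PosD.Janko

namespace Cfsg.Agent.SP

/-- The row of `J₄`. -/
theorem posJ4 : PairAut Cfsg.Spor.J4 :=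
  (PosD.Janko.pair_R.of_equiv (MonoidHom.ofInjective PosD.Janko.rho_inj).symm).pairAut PosD.Janko.inner

end Cfsg.Agent.SP
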