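import Cfsg.Agent.SP.Pos.A.Tri
import Cfsg.Agent.S2060

/-!
# S5755, positive rows: `M₁₁`, the pair `M₁₀ > A₆` (helper22)
-/

set_option autoImplicit false

namespace Cfsg.Agent.SP.PosM11

open Equiv Cfsg.Agent.SporadicA.GolayBase Cfsg.Agent.SporadicA.GolayPerm Cfsg.Agent.SP.PM Cfsg.Agent.SP.Tri
open scoped Pointwise

/-- elements exchanging the two octads through the base duad -/
def L : List ℕ :=
  [850536115568642406908435487288037408, 816096643313514173455979035738121248, 
   588974965823810770866178195060770848, 849246448035805170048210028070346784, 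
   899214583888558003150069357295700000]

theorem L_ok : L.all (fun P => isPerm P && isAut P && Nat.beq (pimg P 340831) 340831 && Nat.beq (papp P 0) 0 &&
    Nat.beq (pimg P 3719203) (3719203 ^^^ 16436384)) = true := by
  decide +kernel

/-- every octad through `0` meeting the dodecad in two points is kept up to sign -/
def covO (i : ℕ) : Bool :=
  !(Nat.beq (popcount (enc i &&& 340831)) 2) || !((enc i).testBit 0) ||
    L.any fun P => Nat.beq (pimg P (enc i)) (enc i) || Nat.beq (pimg P (enc i)) (enc i ^^^ 16436384)

theorem L_cov : allR 12 0 covO = true := by decide +kernel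

/-- an element moving the pair of octads -/
def mv : ℕ := 860914113533713961456629880113597632

theorem mv_perm : isPerm mv = true := by decide +kernel

theorem mem11 {P : ℕ} (hP : isPerm P = true) (hA : isAut P = true) (h : pimg P 340831 = 340831)
    (h0 : papp P 0 = 0) : permOf P hP ∈ Spor.M11 := by
  refine Subgroup.mem_inf.2 ⟨mem_M12 hP hA h, ?_⟩
  rw [MulAction.mem_stabilizer_iff, Perm.smul_def, permOf_apply]
  change pt (papp P 0) = some 0
  rw [h0]
  rfl

/-- the action on sets of points -/
def act (g : Perm GolayPt) (s : Finset GolayPt) : Finset GolayPt := g • s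

/-- the sign -/
def nu (s : Finset GolayPt) : Finset GolayPt := symmDiff s (fin 16436384)

theorem mem_compl : ∀ p : GolayPt, p ∈ fin 16436384 ↔ p ∉ fin 340831 := by decide +kernel

theorem smul_D {g : Perm GolayPt} (hg : g ∈ Spor.M11) : g • fin 340831 = fin 340831 := by
  rw [← sq_eq]
  exact (Subgroup.mem_inf.1 (Subgroup.mem_inf.1 hg).1).2

theorem dat : Dat Spor.M11 Spor.M11 act nu (fin 3719203) where
  le := le_rfl
  one := one_smul _
  mul := mul_smul
  comm h hh x := by
    unfold act nu
    ext p
    obtain ⟨p, rfl⟩ := h.surjective p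
    rw [mem_smul_iff, Finset.mem_symmDiff, Finset.mem_symmDiff, mem_smul_iff, mem_compl, mem_compl]
    conv_rhs => rw [← smul_D hh, mem_smul_iff]
  nn := symmDiff_symmDiff_cancel_right _ _
  ne := by
    unfold nu
    rw [← fin_xor]
    intro h
    exact absurd (fin_injective (by decide +kernel) (by norm_num) h) (by decide +kernel)

theorem good {h : Perm GolayPt} (hh : h ∈ Spor.M11) : Good Spor.M11 act nu (fin 3719203) (act h (fin 3719203)) := by
  have h24 : h ∈ M24 := (Subgroup.mem_inf.1 (Subgroup.mem_inf.1 hh).1).1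
  have h0 : h (some 0) = some 0 := (Subgroup.mem_inf.1 hh).2
  have h1 : isCode (maskOf (h • fin 3719203)) = true := by
    rw [← mem_supports_iff, smul_mem_supports h24, fin_mem_supports_iff (by norm_num)]
    decide +kernel
  obtain ⟨i, hi, he⟩ := isCode_iff_exists.1 h1
  have h2 : act h (fin 3719203) = fin (enc i) := by rw [← he, fin_maskOf]; rfl
  have h3 : popcount (enc i &&& 340831) = 2 := by
    rw [← card_fin, fin_and, ← h2]
    unfold act
    conv_lhs => rw [← smul_D hh, ← Finset.smul_finset_inter, Finset.card_smul_finset, ← fin_and, card_fin]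
    decide +kernel
  have h4 : (enc i).testBit 0 = true := by
    have h5 : (some 0 : GolayPt) ∈ fin (enc i) := by
      rw [← h2, ← h0]
      unfold act
      rw [mem_smul_iff, mem_fin]
      decide +kernel
    exact mem_fin.1 h5
  have h5 := allR_zero_spec L_cov i hi
  simp only [covO, h3, h4, Nat.beq_refl, Bool.not_true, Bool.false_or, List.any_eq_true, Bool.or_eq_true,
    Nat.beq_eq] at h5
  obtain ⟨P, hP, h6⟩ := h5
  have h7 := List.all_eq_true.1 L_ok P hP
  simp only [Bool.and_eq_true, Nat.beq_eq] at h7
  obtain ⟨⟨⟨⟨a1, a2⟩, a3⟩, a4⟩, a5⟩ := h7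
  refine ⟨permOf P a1, mem11 a1 a2 a3 a4, ?_, ?_⟩
  · unfold act nu
    rw [smul_fin, a5, fin_xor]
  · rw [h2]
    unfold act nu
    rw [smul_fin, ← fin_xor]
    exact h6.imp (congrArg fin) (congrArg fin)

end Cfsg.Agent.SP.PosM11

namespace Cfsg.Agent.SP

open Cfsg.Agent.SporadicA.GolayBase Cfsg.Agent.SporadicA.GolayPerm Cfsg.Agent.SP.PM PosM11

theorem posM11 : PairAut Spor.M11 := by
  refine dat.pairAut ⟨_, mem11 mv_perm (by decide +kernel) (by decide +kernel) (by decide +kernel), ?_, ?_⟩ ?_
    fun _ hh => good hh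
  · unfold act
    rw [smul_fin]
    intro h
    exact absurd (fin_injective (pimg_lt mv_perm _) (by norm_num) h) (by decide +kernel)
  · unfold act nu
    rw [smul_fin, ← fin_xor]
    intro h
    exact absurd (fin_injective (pimg_lt mv_perm _) (by decide +kernel) h) (by decide +kernel)
  · intro τ
    obtain ⟨k, rfl⟩ := inner_of_index_one Cfsg.Agent.S2060.result τ
    exact ⟨k, k.2, fun _ => rfl⟩

end Cfsg.Agent.SP
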