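import Cfsg.Agent.SP.Pos.A.Tri
import Cfsg.Agent.S2061
import Cfsg.Agent.S5620

/-!
# S5755, positive rows: `M₁₂`, stabiliser of three points of the dodecad (helper22)
-/

set_option autoImplicit false

namespace Cfsg.Agent.SP.PosM12

open Equiv Cfsg.Agent.SporadicA.GolayBase Cfsg.Agent.SporadicA.GolayPerm Cfsg.Agent.SP.PM Cfsg.Agent.SP.Tri
open scoped Pointwise

/-- elements inducing a transposition on `{0, 1, 2}` -/
def L : List ℕ :=
  [944577568708982012472075918544273442, 891426621594350209137763638658203682, 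
   984642754306893001986305023279301696, 228001363311221454468151101670655040, 
   796590033492984268806335733761967168, 648333173198446926654847902756766784, 
   486357666956854733255495157981544482, 970538946146856546923441370142179362, 
   984718179095662693665844465040132097, 984246521836818460956491656630404160, 
   984355386066803413838770983050249280, 984162663276221444552740466076092417, 
   984573615201180725592165913404213249, 313713857185615328883026503074908161, 
   858949395753556549629437085559029794, 607973598249985555387477857755299874, 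
   720010940336718148064555317766227969, 425347703194539426542169931064444929]

theorem L_ok : L.all (fun P => isPerm P && isAut P && Nat.beq (pimg P 340831) 340831 && oddB P) = true := by
  decide +kernel

/-- the colours -/
def cl (i : ℕ) : ℕ := (340831 >>> i) % 2 + 1

theorem L_cov : covB L cl = true := by decide +kernel

/-- an element moving the triple -/
def mv : ℕ := 974461056323035221108118822655656525

theorem mv_perm : isPerm mv = true := by decide +kernel

/-- the permutations respecting the partition into the dodecad and its complement -/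
def H : Subgroup (Perm GolayPt) where
  carrier := {g | ∀ p q, cl (idx (g p)) = cl (idx (g q)) ↔ cl (idx p) = cl (idx q)}
  one_mem' := fun _ _ => Iff.rfl
  mul_mem' := fun {a b} ha hb p q => (ha (b p) (b q)).trans (hb p q)
  inv_mem' := fun {a} ha p q => by
    have h := ha (a⁻¹ p) (a⁻¹ q)
    rw [← Perm.mul_apply, ← Perm.mul_apply, mul_inv_cancel, Perm.one_apply, Perm.one_apply] at h
    exact h.symm

theorem cl_iff : ∀ p q : GolayPt, cl (idx p) = cl (idx q) ↔
    (p ∈ Spor.squareDodecad ↔ q ∈ Spor.squareDodecad) := by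
  rw [sq_eq]
  decide +kernel

theorem mem_H_of_eq {g : Perm GolayPt} (h : g • Spor.squareDodecad = Spor.squareDodecad) : g ∈ H := by
  intro p q
  rw [cl_iff, cl_iff]
  conv_lhs => rw [← h]
  rw [mem_smul_iff, mem_smul_iff]

theorem mem_H_of_compl {g : Perm GolayPt} (h : g • Spor.squareDodecad = Finset.univ \ Spor.squareDodecad) :
    g ∈ H := by
  intro p q
  have h1 : ∀ p, g p ∈ Spor.squareDodecad ↔ p ∉ Spor.squareDodecad := by
    intro p
    rw [← mem_smul_iff g _ p, h]
    simp
  rw [cl_iff, cl_iff, h1, h1, not_iff_not]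

theorem le_H : Spor.M12 ≤ H := fun _ hg => mem_H_of_eq (Subgroup.mem_inf.1 hg).2

theorem aut (τ : MulAut Spor.M12) : ∃ h ∈ H, ∀ t : Spor.M12, (τ t : Perm GolayPt) = h * t * h⁻¹ := by
  obtain ⟨-, hno, g, hg, hgd, hgM⟩ := Cfsg.Agent.S5620.result
  have hgd' : g • (Finset.univ \ Spor.squareDodecad) = Spor.squareDodecad := by
    rw [Cfsg.Agent.S5620.smul_compl, hgd]
    simp
  have hnorm : ∀ x ∈ Spor.M12, g * x * g⁻¹ ∈ Spor.M12 := by
    intro x hx
    obtain ⟨h1, h2⟩ := Subgroup.mem_inf.1 hx
    refine Subgroup.mem_inf.2 ⟨M24.mul_mem (M24.mul_mem hg h1) (M24.inv_mem hg), ?_⟩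
    rw [MulAction.mem_stabilizer_iff] at h2 ⊢
    rw [mul_smul, mul_smul]
    conv_lhs => rw [← hgd']
    rw [inv_smul_smul, Cfsg.Agent.S5620.smul_compl, h2, hgd']
  have hnorm' : ∀ x ∈ Spor.M12, g⁻¹ * x * g ∈ Spor.M12 := by
    intro x hx
    obtain ⟨h1, h2⟩ := Subgroup.mem_inf.1 hx
    refine Subgroup.mem_inf.2 ⟨M24.mul_mem (M24.mul_mem (M24.inv_mem hg) h1) hg, ?_⟩
    rw [MulAction.mem_stabilizer_iff] at h2 ⊢
    rw [mul_smul, mul_smul, hgd, Cfsg.Agent.S5620.smul_compl, h2, ← hgd, inv_smul_smul]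
  let β : MulAut Spor.M12 :=
    { toFun := fun x => ⟨g * x * g⁻¹, hnorm x x.2⟩
      invFun := fun x => ⟨g⁻¹ * x * g, hnorm' x x.2⟩
      left_inv := fun x => Subtype.ext (by show g⁻¹ * (g * x * g⁻¹) * g = x; group)
      right_inv := fun x => Subtype.ext (by show g * (g⁻¹ * x * g) * g⁻¹ = x; group)
      map_mul' := fun x y => Subtype.ext (by
        show g * (x * y) * g⁻¹ = g * x * g⁻¹ * (g * y * g⁻¹); group) }
  have hβ : ∀ x : Spor.M12, β ≠ MulAut.conj x := by
    intro k hk
    apply hno
    refine ⟨k, k.2, ?_⟩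
    rw [← hgM]
    ext y
    have key : ∀ x ∈ Spor.M11, (k : Perm GolayPt) * x * (k : Perm GolayPt)⁻¹ = g * x * g⁻¹ := by
      intro x hx
      have h1 := congrArg (fun f : MulAut Spor.M12 =>
        ((f ⟨x, (Subgroup.mem_inf.1 hx).1⟩ : Spor.M12) : Perm GolayPt)) hk
      exact h1.symm
    constructor
    · rintro ⟨x, hx, rfl⟩
      exact ⟨x, hx, (key x hx).symm⟩
    · rintro ⟨x, hx, rfl⟩
      exact ⟨x, hx, key x hx⟩
  rcases inner_or_of_index_two Cfsg.Agent.S2061.result hβ τ with ⟨x, rfl⟩ | ⟨x, rfl⟩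
  · exact ⟨x, le_H x.2, fun _ => rfl⟩
  · refine ⟨x * g, H.mul_mem (le_H x.2) (mem_H_of_compl hgd), fun y => ?_⟩
    show (x : Perm GolayPt) * (g * y * g⁻¹) * (x : Perm GolayPt)⁻¹ = _
    group

end Cfsg.Agent.SP.PosM12

namespace Cfsg.Agent.SP

open Cfsg.Agent.SporadicA.GolayPerm Cfsg.Agent.SP.PM Cfsg.Agent.SP.Tri PosM12

theorem posM12 : PairAut Spor.M12 := by
  refine (dat_cj le_H x0_ne).pairAut
    ⟨_, mem_M12 mv_perm (by decide +kernel) (by decide +kernel), move0 mv_perm (by decide +kernel)⟩ aut ?_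
  intro h hh
  refine good_of_cov (L := L) (cl := cl) ?_ L_cov h (Nat.succ_ne_zero _) ((hh _ _).2 (by decide))
    ((hh _ _).2 (by decide))
  intro P hP
  have h1 := List.all_eq_true.1 L_ok P hP
  simp only [Bool.and_eq_true, Nat.beq_eq] at h1
  exact ⟨h1.1.1.1, mem_M12 h1.1.1.1 h1.1.1.2 h1.1.2, h1.2⟩

end Cfsg.Agent.SP
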