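import Cfsg.Agent.SP.Pos.A.Tri
import Cfsg.Agent.S2064

/-!
# S5755, positive rows: `M₂₄`, stabiliser of three points (helper22)
-/

set_option autoImplicit false

namespace Cfsg.Agent.SP.PosM24

open Equiv Cfsg.Agent.SporadicA.GolayBase Cfsg.Agent.SporadicA.GolayPerm Cfsg.Agent.SP.PM Cfsg.Agent.SP.Tri
open scoped Pointwise

/-- elements inducing a transposition on `{0, 1, 2}` -/
def L : List ℕ :=
  [967355081973971438777379695003535361, 729897081210638108267960708026696768, 
   983553802664194553885244102129681472, 357848517709496023207209158556682241, 
   984370794807514838793873707388829730, 860206671073142756509293539025420322, 
   694009768352314749808353361520592897, 977029305085009317940616823204021312, 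
   944538646287692650412084984104976418, 720010940336718148064555317766227969, 
   975630392206473584587242292868448290, 260487750953823662050270463780061218, 
   645818034526874915904147544216928290, 859678985984320548715286026480093185, 
   236427740148401426815620249688310848, 984169119608203352993209106286478400, 
   195204663317982854145612303400371264, 439261361988449592905073737119399970, 
   276072242551163712043354725944723457, 963346652402820709094326637530546210, 
   984353887729730758296120630555740161, 693927850571288734724027363457335330, 
   978327873653409370553588877167592512, 977719388974978180434856304408922113, 
   760081427729525146228614846635672640, 944315327282408179583874309787355137, 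
   960871055847585083685318396297349121, 944555839224614659767009367951017024, 
   818659827466731251402349557446902848, 320200426473901260827904701209346082, 
   464281452031715015160818317864830016, 152772635978926435264415002807470081, 
   888841872387289220024063398360090625, 195586430370107816537794898377670690, 
   508245001518978055871455425701871650, 961450375382535455138506865050223680, 
   721091104923814455432065088565118977, 963723944209615660477976634562021377, 
   195045100661194689056198250080796706, 402631945446052313372235047222380545, 
   648333173198446926654847902756766784, 295525608582701407017908268293620800, 
   818656029927250425124196594281971746, 977008249117701540113203612162328577, 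
   527887128088949971079180398095337473, 891426621594350209137763638658203682, 
   610972587221692859730369045112913954, 734312727911735380586804810015147072, 
   755041129856639909995604513111902209]

theorem L_ok : L.all (fun P => isPerm P && isAut P && oddB P) = true := by decide +kernel

theorem L_cov : covB L (fun _ => 1) = true := by decide +kernel

/-- an element moving the triple -/
def mv : ℕ := 958020233522794296771657265635857539

theorem mv_perm : isPerm mv = true := by decide +kernel

end Cfsg.Agent.SP.PosM24

namespace Cfsg.Agent.SP

open Cfsg.Agent.SporadicA.GolayPerm Cfsg.Agent.SP.PM Cfsg.Agent.SP.Tri PosM24

theorem posM24 : PairAut Cfsg.M24 := by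
  refine (dat_cj (H := Cfsg.M24) le_rfl x0_ne).pairAut
    ⟨_, permOf_mem_M24 mv_perm (by decide +kernel), move0 mv_perm (by decide +kernel)⟩ ?_ ?_
  · intro τ
    obtain ⟨k, rfl⟩ := inner_of_index_one Cfsg.Agent.S2064.result τ
    exact ⟨k, k.2, fun _ => rfl⟩
  · intro h _
    refine good_of_cov (L := L) (cl := fun _ => 1) ?_ L_cov h one_ne_zero rfl rfl
    intro P hP
    have h1 := List.all_eq_true.1 L_ok P hP
    simp only [Bool.and_eq_true] at h1
    exact ⟨h1.1.1, permOf_mem_M24 h1.1.1 h1.1.2, h1.2⟩

end Cfsg.Agent.SP
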