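import Cfsg.Agent.KFacts.ON.Aut
import Cfsg.Agent.SP.Basic

/-! # S5755, the row of the O'Nan group: `L₃(7):2 > L₃(7)`

The involution `a` lies in `H = L₃(7):2` outside `L₃(7)`; its fixed points on the 122760 cosets of `H` meet every orbit
of `H` and every orbit of the image of `H` under the outer automorphism `E0`, which fixes `a`. -/

set_option autoImplicit false
set_option maxRecDepth 100000

namespace Cfsg.Agent.SP.PosD.ONan

open Cfsg.Agent.Lib.PermNet Cfsg.Agent.Lib.PermNetOrbit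
  Cfsg.Agent.ONType.RepDef Cfsg.Agent.ONType.Rep Cfsg.Agent.ONType.RepOrb
open Cfsg.Spor (ON)
open Cfsg.Spor.ON (Gen)
open Cfsg.Agent.KFacts.ON.CentData (moved moved_false)
open Cfsg.Agent.KFacts.ON.Cent (UG_lt stab0 hidx)
open Cfsg.Agent.KFacts.ON.Aut (E0 E0_a E0_b E0_c E0_d E0_e E0_f aut_cases)
open Cfsg.Agent.SporRec

/-- the fixed points of `a` among the 122760 points -/
noncomputable def Fa : ℕ := Nat.xor UG (Nat.land UG (moved (nw [.a] false) 17))

/-- a saturating sequence of generators of `H` -/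
def s1 : List Gen := [.b, .a, .c, .d, .b, .e, .c, .f, .b, .d, .a, .c, .e, .b, .d, .a, .e, .f, .c, .d, .b, .e, .c, .a,
  .b, .d, .f, .c, .a, .b, .d, .e, .c, .d, .c, .f, .b, .e, .d, .c]

/-- a saturating sequence of generators of the image of `H` -/
def s2 : List Gen := [.b, .a, .c, .d, .b, .e, .c, .f, .b, .d, .a, .c, .e, .b, .d, .a, .e, .f, .c, .d, .b, .e, .a, .c,
  .b, .d, .a]

/-- the image of a generator of `H` under `E0`, as a word -/
def tw : Gen → List Gen
  | .d => [.g, .d, .g, .g, .g]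
  | .e => [.g, .e, .g, .g, .g]
  | x => [x]

theorem sat1 : Nat.beq (sat (nws (s1.map fun x => [x])) 1 Fa) UG = true := by decide +kernel

theorem sat2 : Nat.beq (sat (nws (s2.map tw)) 1 Fa) UG = true := by decide +kernel

theorem fix_of_Fa {p : ℕ} (h : Fa.testBit p = true) : rho (gen .a) p = p := by
  have h' : (UG ^^^ (UG &&& moved (nw [.a] false) 17)).testBit p = true := h
  rw [Nat.testBit_xor, Nat.testBit_and] at h'
  have h1 : UG.testBit p = true := by
    cases hU : UG.testBit p with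
    | true => rfl
    | false => rw [hU] at h'; simp at h'
  have h2 : (moved (nw [.a] false) 17).testBit p = false := by
    cases hm : (moved (nw [.a] false) 17).testBit p with
    | false => rfl
    | true => rw [h1, hm] at h'; simp at h'
  rw [← word_single, rho_word]
  exact (moved_false (wok _ _) (UG_lt h1)).1 h2

theorem gen_mem {x : Gen} (hx : x ≠ .g) : gen x ∈ H := by
  refine Subgroup.subset_closure ⟨[x], ?_, word_single x⟩
  cases x <;> simp_all [w1]

theorem E0_gen {x : Gen} (hx : x ≠ .g) : E0 (gen x) = word (tw x) := by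
  cases x
  · exact absurd rfl hx
  · exact E0_a.trans (word_single _).symm
  · exact E0_b.trans (word_single _).symm
  · exact E0_c.trans (word_single _).symm
  · exact E0_d
  · exact E0_e
  · exact E0_f.trans (word_single _).symm

/-- A saturation certificate gives a conjugate of `a` in each two-point stabiliser. -/
theorem key (E : MulAut ON) (hE : E (gen .a) = gen .a) (ws : List (List Gen))
    (hws : ∀ l ∈ ws, ∃ h ∈ H, E h = word l) (hs : Nat.beq (sat (nws ws) 1 Fa) UG = true) (k : ON) :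
    ∃ h ∈ H, (MulAut.conj k * E) (h⁻¹ * gen .a * h) ∈ H := by
  have hp : UG.testBit (rho k⁻¹ 0) = true := by
    have : rho k⁻¹ 0 ∈ {p : ℕ | ∃ x, rho x 0 = p} := ⟨k⁻¹, rfl⟩
    rwa [orbG] at this
  rw [← Nat.eq_of_beq_eq_true hs] at hp
  obtain ⟨_, ⟨_, ⟨h, hh, rfl⟩, rfl⟩, hg⟩ := sat_spec (K := (H.map E.toMonoidHom).map rho) (nws_ok ws) (fun w hw => by
    obtain ⟨l, hl, rfl⟩ := List.mem_map.1 hw
    obtain ⟨h, hh, e⟩ := hws l hl
    exact ⟨word l, ⟨h, hh, e⟩, rho_word l⟩) 1 hp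
  refine ⟨h, hh, (stab0 _).1 ?_⟩
  have h1 : rho (gen .a) (rho (E h) (rho k⁻¹ 0)) = rho (E h) (rho k⁻¹ 0) := fix_of_Fa hg
  have e : (MulAut.conj k * E) (h⁻¹ * gen .a * h) = (E h * k⁻¹)⁻¹ * (gen .a * (E h * k⁻¹)) := by
    rw [MulAut.mul_apply, MulAut.conj_apply, map_mul, map_mul, map_inv, hE]; group
  rw [e, map_mul, map_inv, Equiv.Perm.mul_apply, Equiv.Perm.inv_eq_iff_eq, map_mul, map_mul, Equiv.Perm.mul_apply,
    Equiv.Perm.mul_apply, h1]

/-- the subgroup `L₃(7)` -/
noncomputable def B0 : Subgroup ON := ONL37.N0.map ONAssembly.theta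

theorem mem_H {x : ON} : x ∈ H ↔ ∃ q, ONAssembly.theta q = x := by
  rw [H_eq, ← ONAssembly.range_theta_eq]; rfl

theorem mem_B0 {q : ONL37.Q} : ONAssembly.theta q ∈ B0 ↔ q ∈ ONL37.N0 :=
  Subgroup.mem_map_iff_mem (ONAssembly.theta_injective ONLower.ab_ne_one)

theorem B0_le : B0 ≤ H := by
  rintro _ ⟨q, -, rfl⟩
  exact mem_H.2 ⟨q, rfl⟩

theorem B0_two : ∀ x ∈ H, ∀ y ∈ H, x ∉ B0 → y ∉ B0 → x * y ∈ B0 := by
  intro x hx y hy
  obtain ⟨p, rfl⟩ := mem_H.1 hx
  obtain ⟨q, rfl⟩ := mem_H.1 hy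
  rw [← map_mul, mem_B0, mem_B0, mem_B0, Subgroup.mul_mem_iff_of_index_two ONL37.index_N0]
  tauto

theorem qa_not : ONL37.qa ∉ ONL37.N0 := by
  intro h
  have hb : ONL37.qb ∈ ONL37.N0 := by
    simpa using ONL37.N0.mul_mem (ONL37.N0.inv_mem h) ONL37.qab_mem_N0
  rw [ONL37.N0_eq_ker, MonoidHom.mem_ker] at h
  have h1 : ONL37.tauAut = 1 := congrArg Subtype.val h
  have h2 := ONL37.card_zpowers_tauAut
  rw [h1, Subgroup.zpowers_one_eq_bot, Subgroup.card_bot] at h2
  exact absurd h2 (by decide)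

theorem conj_not {h : ON} (hh : h ∈ H) : h⁻¹ * gen .a * h ∉ B0 := by
  obtain ⟨q, rfl⟩ := mem_H.1 hh
  have ha : gen .a = ONAssembly.theta ONL37.qa := ONAssembly.theta_qa.symm
  rw [ha, ← map_inv, ← map_mul, ← map_mul, mem_B0]
  intro h
  exact qa_not (by simpa [mul_assoc] using ONL37.N0_normal.conj_mem _ h q)

theorem pair : IsPairAut H B0 := by
  refine isPairAut_of_index_two ?_ B0_le B0_two fun τ => ?_
  · intro h
    have := hidx
    rw [h, Subgroup.index_top] at this
    exact absurd this (by norm_num)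
  · have fin : (∃ h ∈ H, τ (h⁻¹ * gen .a * h) ∈ H) → ∃ x ∈ H, τ x ∈ H ∧ x ∉ B0 := by
      rintro ⟨h, hh, ht⟩
      exact ⟨_, H.mul_mem (H.mul_mem (H.inv_mem hh) (gen_mem (by decide))) hh, ht, conj_not hh⟩
    apply fin
    rcases aut_cases τ with ⟨k, rfl⟩ | ⟨k, rfl⟩
    · have := key 1 rfl (s1.map fun x => [x]) (fun l hl => by
        obtain ⟨x, hx, rfl⟩ := List.mem_map.1 hl
        exact ⟨gen x, gen_mem (by rintro rfl; exact absurd hx (by decide)), (word_single x).symm⟩) sat1 k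
      rwa [mul_one] at this
    · exact key E0 E0_a (s2.map tw) (fun l hl => by
        obtain ⟨x, hx, rfl⟩ := List.mem_map.1 hl
        have hx' : x ≠ .g := by rintro rfl; exact absurd hx (by decide)
        exact ⟨gen x, gen_mem hx', E0_gen hx'⟩) sat2 k

end Cfsg.Agent.SP.PosD.ONan

namespace Cfsg.Agent.SP

/-- The row of the O'Nan group. -/
theorem posON : PairAut Cfsg.Spor.ON := ⟨_, _, PosD.ONan.pair⟩

end Cfsg.Agent.SP
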