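import Cfsg.Agent.SP.Pos.B.Gen
import Cfsg.Agent.SporadicB.RuTits
import Cfsg.Agent.RuLat.Main
import Cfsg.Agent.S2077

/-! # S5755: the row `Ru` (`²F₄(2) > ²F₄(2)'` on 4060 points) (helper26) -/

set_option autoImplicit false
set_option maxRecDepth 100000
set_option exponentiation.threshold 5000

namespace Cfsg.Agent.SP.PosB.Ru

open Cfsg Cfsg.Agent.SP
open Cfsg.Agent.SporadicB.RuData Cfsg.Agent.SporadicB.RuOrder Cfsg.Agent.SporadicB.RuTitsData
open Cfsg.Agent.SporadicB.RuTits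
open Cfsg.Agent.Lib.BitNet Cfsg.Agent.Lib.BitNetSimple

theorem o1 : Nat.beq (iterF [x0, x1] 11 (Nat.pow 2 1968)) (row 0) = true := by decide +kernel
theorem o2 : Nat.beq (iterF [x0, x1] 14 (Nat.pow 2 29)) s2 = true := by decide +kernel
theorem cov : Nat.beq (Nat.lor (Nat.lor (row 0) s2) 1) (Nat.sub (Nat.pow 2 4060) 1) = true := by decide +kernel

theorem cells (y : Fin 4060) : (row 0).testBit y = true ∨ s2.testBit y = true ∨ y = b1 := by
  have h : ((row 0 ||| s2) ||| 1) = 2 ^ 4060 - 1 := Nat.eq_of_beq_eq_true cov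
  have h1 : ((row 0 ||| s2) ||| 1).testBit y = true := by
    rw [h, Nat.testBit_two_pow_sub_one]; exact decide_eq_true y.2
  rw [Nat.testBit_or, Nat.testBit_or, Bool.or_eq_true, Bool.or_eq_true] at h1
  rcases h1 with (h1 | h1) | h1
  · exact Or.inl h1
  · exact Or.inr (Or.inl h1)
  · refine Or.inr (Or.inr (Fin.ext ?_))
    rw [Nat.testBit_one_eq_true_iff_self_eq_zero] at h1
    exact h1

theorem key {d : Equiv.Perm (Fin 4060)} (hd : d ∈ H1) (y : Fin 4060) : ∃ b ∈ T, b y = d y := by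
  have two : ∀ (p : Fin 4060) (k c : ℕ), Nat.beq (iterF [x0, x1] k (Nat.pow 2 p)) c = true → c.testBit y = true →
      c.testBit (d y) = true → ∃ b ∈ T, b y = d y := by
    intro p k c hc h1 h2
    obtain ⟨g, hg, e⟩ := exists_of_iterF gensT hc h1
    obtain ⟨g', hg', e'⟩ := exists_of_iterF gensT hc h2
    refine ⟨g' * g⁻¹, T.mul_mem hg' (T.inv_mem hg), ?_⟩
    rw [Equiv.Perm.mul_apply, ← e', ← e]; simp
  have hb : d b1 = b1 := hd.2
  by_cases h0 : y = b1
  · exact ⟨1, T.one_mem, by rw [h0, hb]; rfl⟩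
  by_cases h1 : (row 0).testBit y = true
  · exact two p1 11 _ o1 h1 (by rw [H1_row hd, h1])
  · refine two b2 14 _ o2 (((cells y).resolve_left h1).resolve_right h0) ?_
    refine ((cells (d y)).resolve_left (by rw [H1_row hd]; exact h1)).resolve_right fun h => h0 ?_
    exact d.injective (h.trans hb.symm)

theorem pairH : Pair H := by
  have h1 : H1 ≤ H := inf_le_left
  obtain ⟨d, hd, hdT⟩ := exists_not_mem
  refine ⟨H1.subgroupOf H, T.subgroupOf H, isPair_of_perm H.subtype b1 (fun g => ?_) ?_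
    (Subgroup.comap_mono T_le) (fun x hx y hy h2 h3 => ?_) (d := ⟨d, h1 hd⟩) hd hdT fun t => ?_⟩
  · exact ⟨fun h => h.2, fun h => ⟨g.2, h⟩⟩
  · intro h
    have h2 : H ≤ H1 := Subgroup.subgroupOf_eq_top.1 h
    have h3 := Subgroup.card_le_of_le h2
    rw [card_H, card_H1] at h3
    omega
  · exact mul_mem_of_card T_le (by rw [card_H1, card_T]) x.1 hx y.1 hy h2 h3
  · obtain ⟨b, hb, e⟩ := key hd (H.subtype t b1)
    exact ⟨⟨b, h1 (T_le hb)⟩, hb, e⟩

end Cfsg.Agent.SP.PosB.Ru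

namespace Cfsg.Agent.SP.PosB

theorem posRu : PairAut Cfsg.Spor.Ru :=
  pairAut_of_out_one Cfsg.Agent.S2077.result (Ru.pairH.of_equiv Cfsg.Agent.RuLat.Main.equiv.symm)

end Cfsg.Agent.SP.PosB
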