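import Cfsg.Agent.SP.Pos.B.Gen
import Cfsg.Agent.SP.Pos.B.Net
import Cfsg.Agent.S1681
import Cfsg.Agent.S1694
import Cfsg.Agent.S2074

/-! # S5755: the row `Suz` (`3·U₄(3):2 > 3·U₄(3)` on 22880 points) (helper26) -/

set_option autoImplicit false
set_option maxRecDepth 100000

namespace Cfsg.Agent.SP.PosB.Suz

open Cfsg Cfsg.Spor Cfsg.Agent.SP Cfsg.Agent.Lib.PermNet Cfsg.Agent.Lib.PermNetOrbit
open Cfsg.Agent.SporadicRecognition.CosetCert
open Cfsg.Agent.SporadicRecognition.SuzU43Data Cfsg.Agent.SporadicRecognition.SuzU43All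
open Cfsg.Agent.SporadicRecognition.SuzU43Rel Cfsg.Agent.SporadicRecognition.SuzU43Net
open Cfsg.Agent.S1681 (HH γ gg hyp closure_top fix cox_one)

/-- words for the generators of `B` -/
noncomputable def ws : List (List Net) := [[aN], [bN], [cN], [fN], [gN], [dN, cN, dN]]

theorem cov : covB ws [dN] 6 (Nat.sub (Nat.pow 2 22880) 1) [0, 1, 10, 67, 7122] 0 = true := by decide +kernel
theorem ca : checkEq 15 [sN, eN, aN] [aN, sN, eN] = true := by decide +kernel
theorem cb : checkEq 15 [sN, eN, bN] [bN, sN, eN] = true := by decide +kernel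
theorem cc : checkEq 15 [sN, eN, cN] [cN, sN, eN] = true := by decide +kernel
theorem cf : checkEq 15 [sN, eN, fN] [fN, sN, eN] = true := by decide +kernel
theorem cg : checkEq 15 [sN, eN, gN] [gN, sN, eN] = true := by decide +kernel
theorem cdcd : checkEq 15 [sN, eN, dN, cN, dN] [dN, cN, dN, sN, eN] = true := by decide +kernel
theorem nd : Nat.beq (ptWord [sN, eN, dN] 1) (ptWord [dN, sN, eN] 1) = false := by decide +kernel

theorem φγ (x : Suz.Gen) : φ (γ x) = (net x).perm := φ_of x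

/-- the subgroup of index two -/
def B : Subgroup Suz := Subgroup.closure {γ .a, γ .b, γ .c, γ .f, γ .g, γ .d * γ .c * γ .d}

theorem HH_eq : HH = Subgroup.closure {γ .a, γ .b, γ .c, γ .d, γ .f, γ .g} := by
  rw [HH, MonoidHom.map_closure]
  simp only [Set.image_insert_eq, Set.image_singleton]
  rfl

theorem memA {x : Suz} (h : x ∈ ({γ .a, γ .b, γ .c, γ .d, γ .f, γ .g} : Set Suz)) : x ∈ HH := by
  rw [HH_eq]; exact Subgroup.subset_closure h

theorem memB {x : Suz} (h : x ∈ ({γ .a, γ .b, γ .c, γ .f, γ .g, γ .d * γ .c * γ .d} : Set Suz)) : x ∈ B :=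
  Subgroup.subset_closure h

theorem B_le : B ≤ HH := by
  rw [B, Subgroup.closure_le]
  rintro x (rfl | rfl | rfl | rfl | rfl | rfl)
  · exact memA (by simp)
  · exact memA (by simp)
  · exact memA (by simp)
  · exact memA (by simp)
  · exact memA (by simp)
  · exact HH.mul_mem (HH.mul_mem (memA (by simp)) (memA (by simp))) (memA (by simp))

theorem okX : WOk (2 ^ 15) [sN, eN] := ((WOk.nil _).cons ok_e).cons ok_s

theorem comm_of {w : List Net} (hw : WOk (2 ^ 15) w) (h : checkEq 15 ([sN, eN] ++ w) (w ++ [sN, eN]) = true) :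
    wperm w ∈ Subgroup.centralizer ({wperm [sN, eN]} : Set (Equiv.Perm ℕ)) := by
  rw [Subgroup.mem_centralizer_singleton_iff, ← wperm_append, ← wperm_append]
  exact (wperm_eq_of_checkEq (okX.append hw) (hw.append okX) h).symm

theorem one_eq (x : Suz.Gen) : φ (γ x) = wperm [net x] := by rw [φγ, wperm_cons, wperm_nil, mul_one]

theorem dcd_eq : φ (γ .d * γ .c * γ .d) = wperm [dN, cN, dN] := by
  rw [map_mul, map_mul, φγ, φγ]
  simp only [wperm_cons, wperm_nil, mul_one, mul_assoc]
  rfl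

theorem ok1 (x : Suz.Gen) : WOk (2 ^ 15) [net x] := (WOk.nil _).cons (net_ok x)

theorem ok3 : WOk (2 ^ 15) [dN, cN, dN] := (((WOk.nil _).cons ok_d).cons ok_c).cons ok_d

theorem d_not_mem : γ .d ∉ B := by
  have h : B ≤ (Subgroup.centralizer ({wperm [sN, eN]} : Set (Equiv.Perm ℕ))).comap φ := by
    rw [B, Subgroup.closure_le]
    rintro x (rfl | rfl | rfl | rfl | rfl | rfl)
    · rw [SetLike.mem_coe, Subgroup.mem_comap, one_eq]; exact comm_of (ok1 _) ca
    · rw [SetLike.mem_coe, Subgroup.mem_comap, one_eq]; exact comm_of (ok1 _) cb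
    · rw [SetLike.mem_coe, Subgroup.mem_comap, one_eq]; exact comm_of (ok1 _) cc
    · rw [SetLike.mem_coe, Subgroup.mem_comap, one_eq]; exact comm_of (ok1 _) cf
    · rw [SetLike.mem_coe, Subgroup.mem_comap, one_eq]; exact comm_of (ok1 _) cg
    · rw [SetLike.mem_coe, Subgroup.mem_comap, dcd_eq]; exact comm_of ok3 cdcd
  intro hd
  have h1 : φ (γ .d) ∈ Subgroup.centralizer ({wperm [sN, eN]} : Set (Equiv.Perm ℕ)) := h hd
  rw [one_eq, Subgroup.mem_centralizer_singleton_iff, ← wperm_append, ← wperm_append] at h1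
  have h2 : Nat.beq (ptWord ([sN, eN] ++ [net .d]) 1) (ptWord ([net .d] ++ [sN, eN]) 1) = false := nd
  rw [ptWord_eq (okX.append (ok1 .d)), ptWord_eq ((ok1 .d).append okX)] at h2
  have h3 : wperm ([sN, eN] ++ [net .d]) 1 = wperm ([net .d] ++ [sN, eN]) 1 := by rw [h1]
  rw [h3, Nat.beq_refl] at h2
  exact Bool.noConfusion h2

theorem conj_comm {x : Suz.Gen} (h : coxLabel Suz.edges .d x = 2) : γ .d * γ x * (γ .d)⁻¹ = γ x := by
  have h1 := cox_one .d x
  rw [h, pow_two] at h1
  rw [S1681.inv_eq]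
  have h2 := S1681.sq x
  calc γ .d * γ x * γ .d = γ .d * γ x * γ .d * (γ x * γ x) := by rw [h2, mul_one]
    _ = γ .d * γ x * (γ .d * γ x) * γ x := by group
    _ = γ x := by rw [h1, one_mul]

theorem normal_d : ∀ b ∈ B, γ .d * b * (γ .d)⁻¹ ∈ B := by
  have h : B ≤ B.comap (MulAut.conj (γ .d)).toMonoidHom := by
    rw [B, Subgroup.closure_le]
    rintro x (rfl | rfl | rfl | rfl | rfl | rfl) <;> change γ .d * _ * (γ .d)⁻¹ ∈ B
    · rw [conj_comm (by decide)]; exact memB (by simp)
    · rw [conj_comm (by decide)]; exact memB (by simp)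
    · rw [S1681.inv_eq]; exact memB (by simp)
    · rw [conj_comm (by decide)]; exact memB (by simp)
    · rw [conj_comm (by decide)]; exact memB (by simp)
    · have h2 := S1681.sq .d
      have : γ .d * (γ .d * γ .c * γ .d) * (γ .d)⁻¹ = γ .c := by
        calc _ = γ .d * γ .d * γ .c := by group
          _ = γ .c := by rw [h2, one_mul]
      rw [this]; exact memB (by simp)
  exact fun b hb => h hb

theorem isPair : IsPair HH B := by
  have h1 := index_le C HH gg hyp part closure_top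
  obtain ⟨hi, hst, hlt⟩ := index_eq_of_action HH φ 22880 fix transitive h1.2 h1.1
  refine isPair_of_perm φ 0 (fun g => (hst g).symm) ?_ B_le
    (mul_mem_of_gen (d := γ .d) (by rw [S1681.sq]; exact B.one_mem) normal_d _ HH_eq ?_)
    (d := γ .d) (memA (by simp)) d_not_mem fun t => ?_
  · intro h
    rw [h, Subgroup.index_top] at hi
    omega
  · rintro x (rfl | rfl | rfl | rfl | rfl | rfl)
    · exact Or.inl (memB (by simp))
    · exact Or.inl (memB (by simp))
    · exact Or.inl (memB (by simp))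
    · right; rw [mul_inv_cancel]; exact B.one_mem
    · exact Or.inl (memB (by simp))
    · exact Or.inl (memB (by simp))
  · have hws : WsOk (2 ^ 15) ws := by
      intro w hw
      simp only [ws, List.mem_cons, List.not_mem_nil, or_false] at hw
      rcases hw with rfl | rfl | rfl | rfl | rfl | rfl
      exacts [ok1 .a, ok1 .b, ok1 .c, ok1 .f, ok1 .g, ok3]
    have hK : ∀ w ∈ ws, wperm w ∈ B.map φ := by
      intro w hw
      simp only [ws, List.mem_cons, List.not_mem_nil, or_false] at hw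
      rcases hw with rfl | rfl | rfl | rfl | rfl | rfl
      · exact ⟨_, memB (by simp), one_eq .a⟩
      · exact ⟨_, memB (by simp), one_eq .b⟩
      · exact ⟨_, memB (by simp), one_eq .c⟩
      · exact ⟨_, memB (by simp), one_eq .f⟩
      · exact ⟨_, memB (by simp), one_eq .g⟩
      · exact ⟨_, memB (by simp), dcd_eq⟩
    obtain ⟨_, ⟨b, hb, rfl⟩, e⟩ := covB_full hws hK (ok1 .d) cov (φ t 0) (hlt t)
    exact ⟨b, hb, by rw [e, one_eq]⟩

theorem rho_γ (x : Suz.Gen) : KFacts.SuzRho.rho (γ x) = γ (KFacts.SuzRho.sw x) := KFacts.SuzRho.rhoHom_of x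

theorem rho_HH : ∀ a ∈ HH, (1 : Suz)⁻¹ * KFacts.SuzRho.rho a * 1 ∈ HH := by
  have h : HH ≤ HH.comap KFacts.SuzRho.rho.toMonoidHom := by
    conv_lhs => rw [HH_eq]
    rw [Subgroup.closure_le]
    rintro x (rfl | rfl | rfl | rfl | rfl | rfl) <;> change KFacts.SuzRho.rho _ ∈ HH <;> rw [rho_γ] <;>
      exact memA (by simp [KFacts.SuzRho.sw])
  intro a ha
  simpa using h ha

end Cfsg.Agent.SP.PosB.Suz

namespace Cfsg.Agent.SP.PosB

theorem posSuz : PairAut Cfsg.Spor.Suz := by
  have hf : Finite Cfsg.Spor.Suz := Nat.finite_of_card_ne_zero (by rw [Cfsg.Agent.S1694.result.2]; norm_num)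
  exact ⟨_, _, IsPair.isPairAut_of_out_two Suz.isPair Cfsg.Agent.S2074.result Cfsg.Agent.H997.OutSuz.rho_outer
    (map_eq_of_le _ 1 Suz.rho_HH)⟩

end Cfsg.Agent.SP.PosB
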