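import Cfsg.Agent.SP.Pos.B.Gen
import Cfsg.Agent.SP.Pos.B.Leech
import Cfsg.Agent.S2070

/-! # S5755: the row `Co₂` (`U₆(2):2 > U₆(2)` on 2300 pairs) (helper26) -/

set_option autoImplicit false

namespace Cfsg.Agent.SP.PosB

open Cfsg Cfsg.Agent.SP Cfsg.Agent.SporadicStructure.Co2RankThree

theorem co2_smul (γ : Spor.Co2) (x : leechLattice) : γ • x = toCo0 γ • x := rfl

theorem pairCo2 : Pair Spor.Co2 := by
  have hy := y1_mem_A
  have ha := dt_a0_a0
  refine pair_of_swap (T := Spor.Co2) opp opp_opp (fun g x => smul_opp _ (toCo0_a0 g) x) y1 (opp_ne hy) ?_ ?_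
  · obtain ⟨x, hx⟩ := Set.nonempty_of_ncard_ne_zero (s := O0 a0 y1) (by rw [ncard_O0 a0 y1 ha hy]; norm_num)
    obtain ⟨g, h1, h2⟩ := exists_A a0 y1 x ha hy ⟨hx.1, hx.2.1⟩
    have e : ofCo0 g h1 • y1 = x := h2
    have h3 := hx.2.2
    have h4 := hy.1
    refine ⟨ofCo0 g h1, ?_, ?_⟩ <;> rw [e] <;> intro h
    · rw [h] at h3; omega
    · rw [h, dt_y1_opp] at h3; omega
  · intro t
    obtain ⟨s, hs1, hs2⟩ := exists_A a0 y1 (opp y1) ha hy (opp_mem_A hy)
    have hs3 : s • opp y1 = y1 := by rw [smul_opp _ hs1, hs2, opp_opp]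
    have hx : t • y1 ∈ A a0 := ⟨(dt_smul (toCo0 t) _ _).trans hy.1, (dt_smul_of_fix (toCo0_a0 t) _).trans hy.2⟩
    generalize t • y1 = x at hx
    have hsx : s • x ∈ A a0 := ⟨(dt_smul _ _ _).trans hx.1, (dt_smul_of_fix hs1 _).trans hx.2⟩
    have hd : dt y1 (s • x) = 16 - dt y1 x := by
      conv_lhs => rw [← hs3]
      rw [dt_smul, dt_comm, ← dt_y1_opp, dt_comm y1]
      unfold opp
      have h1 := hx.2
      have h2 := hy.2
      simp only [dt_neg_left, dt_neg_right, dt_add_left, dt_add_right]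
      rw [dt_comm x a0, dt_comm x y1, h1, h2]
    have fin : ∀ m : Co0, m • a0 = a0 → m • y1 = y1 → ∀ z, m • s • x = z → (z = x ∨ z = opp x) →
        ∃ g : Spor.Co2, g • y1 = opp y1 ∧ (g • x = x ∨ g • x = opp x) := by
      intro m h1 h2 z h3 h4
      refine ⟨ofCo0 (m * s) (by rw [mul_smul, hs1, h1]), ?_, ?_⟩
      · change (m * s) • y1 = opp y1
        rw [mul_smul, hs2, smul_opp _ h1, h2]
      · change (m * s) • x = x ∨ (m * s) • x = opp x
        rw [mul_smul, h3]; exact h4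
    have hox := opp_mem_A hx
    have hd2 := dt_y1_opp x
    have hoy : dt (opp y1) x = 16 - dt y1 x := by
      unfold opp
      have h1 := hx.2
      simp only [dt_neg_left, dt_add_left]
      omega
    have hy1 := hy.1
    rcases dt_min hy.1 hx.1 with h | h | h | h | h | h | h
    · exact fin 1 (one_smul _ _) (one_smul _ _) _ rfl (Or.inr (by rw [one_smul, h, hs2]))
    · exfalso
      have h1 := hx.2
      have h2 := hy.2
      rw [h, dt_neg_right] at h1
      omega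
    · obtain ⟨m, h1, h2, h3⟩ := trans_O0 a0 y1 (s • x) (opp x) ha hy ⟨hsx.1, hsx.2, by omega⟩
        ⟨hox.1, hox.2, by omega⟩
      exact fin m h1 h2 _ h3 (Or.inr rfl)
    · obtain ⟨m, h1, h2, h3⟩ := trans_O8 a0 y1 (s • x) x ha hy ⟨hsx.1, hsx.2, by omega⟩ ⟨hx.1, hx.2, h⟩
      exact fin m h1 h2 _ h3 (Or.inl rfl)
    · have hosx := opp_mem_A hsx
      have hd3 := dt_y1_opp (s • x)
      obtain ⟨m, h1, h2, h3⟩ := trans_O0 a0 y1 (opp (s • x)) x ha hy ⟨hosx.1, hosx.2, by omega⟩ ⟨hx.1, hx.2, h⟩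
      refine fin m h1 h2 _ rfl (Or.inr ?_)
      rw [smul_opp _ h1] at h3
      exact (opp_opp _).symm.trans (congrArg opp h3)
    · exfalso
      rcases dt_min (opp_mem_A hy).1 hx.1 with h' | h' | h' | h' | h' | h' | h'
      · rw [h', dt_y1_opp] at h; omega
      · rw [h', dt_neg_right, dt_y1_opp] at h; omega
      all_goals omega
    · rcases dt_min (opp_mem_A hy).1 hx.1 with h' | h' | h' | h' | h' | h' | h'
      · exact fin 1 (one_smul _ _) (one_smul _ _) _ rfl (Or.inr (by rw [one_smul, h', hs3, opp_opp]))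
      · rw [h', dt_neg_right, dt_y1_opp] at h; omega
      all_goals omega

theorem posCo2 : PairAut Spor.Co2 := pairAut_of_out_one Cfsg.Agent.S2070.result pairCo2

end Cfsg.Agent.SP.PosB
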